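import Groth.Agent.S2328
import Groth.Agent.S2329
import Groth.Agent.S4413
import Groth.Agent.S15745
import Groth.Agent.CohqB.FinAmple
import Groth.Agent.Ega2.AmpleWeight
import Groth.Agent.Fga.UnitRestrict
import Groth.Agent.Fga.PicMon

/-!
# Invertible modules with base point free powers

`SA N`: every point lies in the generating locus of a section of a positive power of `N`.
-/

set_option autoImplicit false
universe u
open CategoryTheory CategoryTheory.Limits AlgebraicGeometry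

namespace K104.SemiA

open Groth.Agent Groth.Agent.Fdesc.LocGen Groth.Agent.Fga.PicMon

variable {X Y : Scheme.{u}}

/-- Semi-ample. -/
def SA (N : X.Modules) : Prop :=
  ∀ x : X, ∃ (n : ℕ) (s : Coh.structureModule X ⟶ CohB1.tensorPow N (n + 1)), x ∈ CohB1.genLocus _ s

theorem SA.of_iso {N M : X.Modules} (e : N ≅ M) (h : SA N) : SA M := by
  intro x
  obtain ⟨n, s, hs⟩ := h x
  obtain ⟨i⟩ : Nonempty (CohB1.tensorPow N (n + 1) ≅ CohB1.tensorPow M (n + 1)) := by
    rw [← mc_eq_iff, mc_tensorPow, mc_tensorPow, mc_eq e]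
  exact ⟨n, s ≫ i.hom, by rw [S2329.genLocus_comp_iso]; exact hs⟩

theorem SA.congr {N M : X.Modules} (e : mc N = mc M) (h : SA N) : SA M :=
  h.of_iso (Classical.choice ((mc_eq_iff N M).mp e))

theorem SA.of_ample {N : X.Modules} (h : CohB1.IsAmple N) : SA N := by
  intro x
  obtain ⟨n, s, hs, -⟩ := h.2.2 x
  exact ⟨n, s, hs⟩

/-- One section of `N` at each point. -/
theorem SA.of_sections {N : X.Modules} (h : ∀ x : X, ∃ s : Coh.structureModule X ⟶ N, x ∈ CohB1.genLocus _ s) :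
    SA N := by
  intro x
  obtain ⟨s, hs⟩ := h x
  obtain ⟨i⟩ : Nonempty (N ≅ CohB1.tensorPow N (0 + 1)) := by
    rw [← mc_eq_iff, mc_tensorPow, zero_add, pow_one]
  exact ⟨0, s ≫ i.hom, by rw [S2329.genLocus_comp_iso]; exact hs⟩

theorem exists_pull_section (g : Y ⟶ X) {N : X.Modules} (hN : PicF.IsInvertible N) (y : Y)
    (s : Coh.structureModule X ⟶ N) (hs : g y ∈ CohB1.genLocus _ s) :
    ∃ t : Coh.structureModule Y ⟶ (Scheme.Modules.pullback g).obj N, y ∈ CohB1.genLocus _ t := by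
  refine ⟨(Fga.UnitRestrict.pullbackUnitIso g).inv ≫ (Scheme.Modules.pullback g).map s, ?_⟩
  have h := S4413.result g N hN s (Fga.UnitRestrict.pullbackUnitIso g).symm
  have h' : CohB1.genLocus _ ((Fga.UnitRestrict.pullbackUnitIso g).inv ≫ (Scheme.Modules.pullback g).map s) =
      g ⁻¹ᵁ CohB1.genLocus N s := h
  rw [h']
  exact hs

theorem SA.pull (g : Y ⟶ X) {N : X.Modules} (hN : PicF.IsInvertible N) (h : SA N) :
    SA ((Scheme.Modules.pullback g).obj N) := by
  intro y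
  obtain ⟨n, s, hs⟩ := h (g y)
  obtain ⟨t, ht⟩ := exists_pull_section g (isInvertible_tensorPow hN (n + 1)) y s hs
  obtain ⟨i⟩ := CohqB.FinAmple.nonempty_pullback_tensorPow g hN (n + 1)
  exact ⟨n, t ≫ i.hom, by rw [S2329.genLocus_comp_iso]; exact ht⟩

theorem SA.of_pow {N : X.Modules} {q : ℕ} (hq : 0 < q) (h : SA (CohB1.tensorPow N q)) : SA N := by
  intro x
  obtain ⟨n, s, hs⟩ := h x
  obtain ⟨m, hm⟩ : ∃ m, q * (n + 1) = m + 1 := ⟨q * (n + 1) - 1, by
    have : 0 < q * (n + 1) := Nat.mul_pos hq (Nat.succ_pos n)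
    omega⟩
  obtain ⟨i⟩ : Nonempty (CohB1.tensorPow (CohB1.tensorPow N q) (n + 1) ≅ CohB1.tensorPow N (m + 1)) := by
    rw [← mc_eq_iff, mc_tensorPow, mc_tensorPow, mc_tensorPow, ← pow_mul, hm]
  exact ⟨m, s ≫ i.hom, by rw [S2329.genLocus_comp_iso]; exact hs⟩

theorem SA.tensor {N M : X.Modules} (hN : PicF.IsInvertible N) (hM : PicF.IsInvertible M) (h : SA N) (h' : SA M) :
    SA (CohB1.tensorMod N M) := by
  intro x
  obtain ⟨n, s, hs⟩ := h x
  obtain ⟨m, t, ht⟩ := h' x
  have hNn := isInvertible_tensorPow hN (n + 1)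
  have hMm := isInvertible_tensorPow hM (m + 1)
  let s' := Ega2.Weight.powHom s (m + 1)
  let t' := Ega2.Weight.powHom t (n + 1)
  have hs' : x ∈ CohB1.genLocus _ s' := by
    rw [Ega2.Weight.genLocus_powHom hNn _ (Nat.succ_pos m)]; exact hs
  have ht' : x ∈ CohB1.genLocus _ t' := by
    rw [Ega2.Weight.genLocus_powHom hMm _ (Nat.succ_pos n)]; exact ht
  obtain ⟨l, hl⟩ : ∃ l, (n + 1) * (m + 1) = l + 1 := ⟨(n + 1) * (m + 1) - 1, by
    have : 0 < (n + 1) * (m + 1) := Nat.mul_pos (Nat.succ_pos n) (Nat.succ_pos m)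
    omega⟩
  obtain ⟨i⟩ : Nonempty (CohB1.tensorMod (CohB1.tensorPow (CohB1.tensorPow N (n + 1)) (m + 1))
      (CohB1.tensorPow (CohB1.tensorPow M (m + 1)) (n + 1)) ≅ CohB1.tensorPow (CohB1.tensorMod N M) (l + 1)) := by
    rw [← mc_eq_iff, mc_tensor, mc_tensorPow, mc_tensorPow, mc_tensorPow, mc_tensorPow, mc_tensorPow, mc_tensor,
      ← pow_mul, ← pow_mul, hl, mul_comm (m + 1), hl, mul_pow]
  refine ⟨l, SecTwist.tmulHom s' t' ≫ i.hom, ?_⟩
  rw [S2329.genLocus_comp_iso, S15745.result X _ _ (isInvertible_tensorPow hNn _) (isInvertible_tensorPow hMm _)]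
  exact ⟨hs', ht'⟩

theorem SA.one : SA (Coh.structureModule X) := by
  refine SA.of_sections fun x => ⟨𝟙 _, ?_⟩
  have h : CohB1.genLocus (Coh.structureModule X) (𝟙 _) = ⊤ := by
    rw [← top_le_iff, le_genLocus_iff, ← isIso_iff_isGen]
    infer_instance
  rw [h]
  trivial

theorem SA.tensorPow {N : X.Modules} (hN : PicF.IsInvertible N) (h : SA N) (n : ℕ) : SA (CohB1.tensorPow N n) := by
  induction n with
  | zero => exact SA.one
  | succ n ih => exact SA.tensor (isInvertible_tensorPow hN n) hN ih h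

/-- `A ⊗ N` is ample for `A` ample and `N` semi-ample. -/
theorem SA.amp [CompactSpace X] [X.IsSeparated] {A N : X.Modules} (hA : CohB1.IsAmple A) (hN : PicF.IsInvertible N)
    (h : SA N) : CohB1.IsAmple (CohB1.tensorMod A N) :=
  S2328.result X A N hA hN h

end K104.SemiA
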