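import Mathlib.Algebra.Order.Archimedean.Real.Basic
import Mathlib.Tactic.Linarith
import Mathlib.Tactic.FieldSimp
import Mathlib.Tactic.Positivity
import Mathlib.Order.ConditionallyCompleteLattice.Basic

/-!
# Linear bounds from a semigroup of slopes
-/

set_option autoImplicit false

namespace K104.RegNum

/-- Abstract linear bounds. -/
theorem linear_bounds (gg reg : ℕ → ℤ → Prop)
    (h1 : ∀ p : ℕ, 1 ≤ p → ∀ m, reg p m → gg p m)
    (h2 : ∀ p : ℕ, 1 ≤ p → ∀ m, gg p m → 0 ≤ m)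
    (h3 : ∀ p : ℕ, 1 ≤ p → ∃ m, reg p m)
    (hmono : ∀ p : ℕ, 1 ≤ p → ∀ m m', reg p m → m ≤ m' → reg p m')
    (c a p₀ : ℕ)
    (h4 : ∀ p : ℕ, p₀ ≤ p → c < p → ∀ m : ℤ,
      (∃ (q : ℕ) (r : ℤ), 1 ≤ q ∧ gg q r ∧ r * ((p - c : ℕ) : ℤ) < (m - a) * q) → reg p m) :
    ∃ s e : ℝ, ∀ p : ℕ, 1 ≤ p → ∀ m : ℤ,
      (reg p m → s * (p : ℝ) ≤ (m : ℝ)) ∧ (s * (p : ℝ) + e ≤ (m : ℝ) → reg p m) := by
  set S : Set ℝ := {x | ∃ (q : ℕ) (r : ℤ), 1 ≤ q ∧ gg q r ∧ x = (r : ℝ) / q} with hS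
  have hbdd : BddBelow S := by
    refine ⟨0, ?_⟩
    rintro x ⟨q, r, hq, hgg, rfl⟩
    have := h2 q hq r hgg
    positivity
  have hne : S.Nonempty := by
    obtain ⟨m, hm⟩ := h3 1 le_rfl
    exact ⟨_, 1, m, le_rfl, h1 1 le_rfl m hm, rfl⟩
  have hs0 : 0 ≤ sInf S := by
    refine le_csInf hne ?_
    rintro x ⟨q, r, hq, hgg, rfl⟩
    have := h2 q hq r hgg
    positivity
  choose! μ hμ using h3
  let M : ℤ := ∑ p ∈ Finset.range (p₀ + c + 1), |μ p|
  have hM : ∀ p : ℕ, 1 ≤ p → p < p₀ + c + 1 → μ p ≤ M := by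
    intro p hp hp'
    refine (le_abs_self _).trans ?_
    exact Finset.single_le_sum (f := fun p => |μ p|) (fun i _ => abs_nonneg _) (Finset.mem_range.mpr hp')
  refine ⟨sInf S, |(M : ℝ)| + a + 1, fun p hp m => ⟨fun h => ?_, fun h => ?_⟩⟩
  · have hp' : (0 : ℝ) < p := by exact_mod_cast hp
    have h5 : sInf S ≤ (m : ℝ) / p := csInf_le hbdd ⟨p, m, hp, h1 p hp m h, rfl⟩
    rwa [le_div_iff₀ hp'] at h5
  · have hp' : (0 : ℝ) < p := by exact_mod_cast hp
    have hsp : 0 ≤ sInf S * p := by positivity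
    by_cases hlt : p < p₀ + c + 1
    · refine hmono p hp (μ p) m (hμ p hp) ?_
      have h5 := hM p hp hlt
      have h6 : (M : ℝ) ≤ m := by
        have := le_abs_self (M : ℝ)
        have ha : (0 : ℝ) ≤ a := Nat.cast_nonneg a
        linarith
      exact h5.trans (by exact_mod_cast h6)
    · push Not at hlt
      have hpc : 0 < p - c := by omega
      have hpc' : (0 : ℝ) < ((p - c : ℕ) : ℝ) := by exact_mod_cast hpc
      refine h4 p (by omega) (by omega) m ?_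
      have h7 : sInf S < ((m : ℝ) - a) / ((p - c : ℕ) : ℝ) := by
        rw [lt_div_iff₀ hpc']
        have h8 : sInf S * ((p - c : ℕ) : ℝ) ≤ sInf S * p := by
          refine mul_le_mul_of_nonneg_left ?_ hs0
          exact_mod_cast Nat.sub_le p c
        have := abs_nonneg (M : ℝ)
        linarith
      obtain ⟨x, ⟨q, r, hq, hgg, rfl⟩, hx⟩ := exists_lt_of_csInf_lt hne h7
      have hq' : (0 : ℝ) < q := by exact_mod_cast hq
      refine ⟨q, r, hq, hgg, ?_⟩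
      rw [div_lt_div_iff₀ hq' hpc'] at hx
      exact_mod_cast hx

end K104.RegNum
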