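import Groth.Agent.Variety.K104.Blow
import Groth.Agent.Variety.K104.RegNum
import Groth.Agent.Vanish.K909.Fujita
import Groth.Agent.S1647
import Groth.Agent.S8859
import Groth.Agent.S2348
import Groth.Agent.S8910
import Groth.Agent.S0844
import Groth.Agent.S10962
import Groth.Agent.Lefpen.H21.PicTwist
import Groth.Agent.Pic13.H496.Mum
import Groth.Agent.Gaga.H883.Serre
import Groth.Agent.IntSh.K877.ProjEmb
import Groth.Agent.Lefpen.H717.ProjIrr
import Groth.Agent.Ega3B.SectExact
import Groth.Agent.CurvesC.GGSec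

/-!
# Linear bounds for the regularity of the powers of an ideal sheaf

`linear_bounds`: from the uniform vanishing (`FujSA`) over semi-ample modules on projective varieties.
-/

set_option autoImplicit false
universe u
open CategoryTheory CategoryTheory.Limits AlgebraicGeometry Opposite TopologicalSpace

namespace K104.RegPow

open Groth.Agent Groth.Agent.Fdesc.LocGen Groth.Agent.Fga.PicMon Groth.Agent.Grpsch.PicGrp
open Groth.Agent.Lefpen.H21.PicTwist K104.SemiA

section Classes

variable {X : Scheme.{u}}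

/-- Semi-ample classes. -/
def SAc (c : Pic X) : Prop := ∃ (N : X.Modules) (hN : PicF.IsInvertible N), mk N hN = c ∧ SA N

theorem SAc.sa {N : X.Modules} (hN : PicF.IsInvertible N) (h : SAc (mk N hN)) : SA N := by
  obtain ⟨M, hM, e, h⟩ := h
  obtain ⟨i⟩ := (mk_eq_iff hM hN).mp e
  exact h.of_iso i

theorem SAc.mul {c d : Pic X} (hc : SAc c) (hd : SAc d) : SAc (c * d) := by
  obtain ⟨N, hN, rfl, h⟩ := hc
  obtain ⟨M, hM, rfl, h'⟩ := hd
  exact ⟨_, isInvertible_tensorMod hN hM, (mk_mul_mk hN hM).symm, h.tensor hN hM h'⟩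

theorem SAc.pow {c : Pic X} (hc : SAc c) (n : ℕ) : SAc (c ^ n) := by
  obtain ⟨N, hN, rfl, h⟩ := hc
  exact ⟨_, isInvertible_tensorPow hN n, mk_tensorPow hN n, h.tensorPow hN n⟩

theorem SAc.of_pow {c : Pic X} {q : ℕ} (hq : 0 < q) (h : SAc (c ^ q)) : SAc c := by
  obtain ⟨N, hN, rfl⟩ := exists_mk c
  rw [← mk_tensorPow hN] at h
  exact ⟨N, hN, rfl, SA.of_pow hq h.sa⟩

theorem SAc.zpow {c : Pic X} (hc : SAc c) {n : ℤ} (hn : 0 ≤ n) : SAc (c ^ n) := by
  obtain ⟨m, rfl⟩ := Int.eq_ofNat_of_zero_le hn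
  rw [zpow_natCast]
  exact hc.pow m

/-- The slope argument. -/
theorem SAc.slope {h e : Pic X} (hh : SAc h) {q p : ℕ} {r m : ℤ} (hq : 1 ≤ q) (hg : SAc (h ^ r * e ^ q))
    (hlt : r * p ≤ m * q) : SAc (h ^ m * e ^ p) := by
  refine SAc.of_pow (q := q) (by omega) ?_
  have h1 : (h ^ m * e ^ p) ^ q = (h ^ r * e ^ q) ^ p * h ^ (m * q - r * p) := by
    rw [mul_pow, mul_pow, ← zpow_natCast (h ^ m), ← zpow_natCast (h ^ r), ← zpow_mul, ← zpow_mul, zpow_sub,
      ← pow_mul, ← pow_mul, mul_comm p q]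
    calc h ^ (m * ↑q) * e ^ (q * p) = e ^ (q * p) * (h ^ (m * ↑q) * (h ^ (r * ↑p) * (h ^ (r * ↑p))⁻¹)) := by
          rw [mul_inv_cancel, mul_one, mul_comm]
      _ = h ^ (r * ↑p) * e ^ (q * p) * (h ^ (m * ↑q) * (h ^ (r * ↑p))⁻¹) := by
          ac_rfl
  rw [h1]
  exact (hg.pow p).mul (hh.zpow (by linarith))

theorem grp_id {G : Type*} [CommGroup G] (h e : G) (m : ℤ) (a c q : ℕ) :
    h ^ m * e ^ q * (h ^ (a : ℤ) * e) ^ c = h ^ (m + a * c) * e ^ (q + c) := by
  have h1 : (h ^ (a : ℤ)) ^ c = h ^ ((a : ℤ) * c) := by rw [zpow_mul, zpow_natCast (h ^ (a : ℤ)) c]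
  rw [mul_pow, h1, zpow_add, pow_add, mul_assoc, mul_assoc, mul_left_comm (e ^ q)]

end Classes

/-- Uniform vanishing over semi-ample modules, for the structure sheaf. -/
def FujSA (k : Type u) [Field k] : Prop :=
  ∀ (X : Scheme.{u}) (f : X ⟶ Spec (CommRingCat.of k)) [IsIntegral X] [IsProper f] (H : X.Modules),
    CohB1.IsAmple H → K909.Fujita.VanGe (fun N : X.Modules => SA N) H (Coh.structureModule X) 1

section Main

variable (k : Type u) [Field k] (n : ℕ)

theorem isNoetherian_proj : IsNoetherian (CohB1.ProjSpace n k) := by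
  let : (CohB1.ProjSpace n k).Over (Spec (CommRingCat.of k)) := ⟨CohB1.ProjSpace.toSpec n k⟩
  have : IsProper ((CohB1.ProjSpace n k) ↘ Spec (CommRingCat.of k)) :=
    inferInstanceAs (IsProper (CohB1.ProjSpace.toSpec n k))
  exact VarietyA.TwistExist.isNoetherian k _

theorem isCoh_idealMod (I : (CohB1.ProjSpace n k).IdealSheafData) : Coh.IsCoh (ClSub.idealMod I) := by
  have := isNoetherian_proj k n
  have := CohqA.IdealMod.mono_idealModι I
  exact CycB.CohProp.isCoh_of_mono (ClSub.idealModι I) (CohqA.IdealMod.isQCoh_idealMod I)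
    (CurvesC.UnitCoh.isCoh_unit _)

theorem exists_reg (I : (CohB1.ProjSpace n k).IdealSheafData) : ∃ m : ℤ, Curv2.IsMRegular k n (ClSub.idealMod I) m := by
  obtain ⟨m₀, h⟩ := Gaga.H883.Serre.serre n k (isCoh_idealMod k n I)
  exact ⟨m₀ + n, fun i hi hin => h _ (by omega) i hi⟩

/-- A globally generated twist of a nonzero ideal is by a nonnegative integer. -/
theorem nonneg_of_gg (hn : 1 ≤ n) {I : (CohB1.ProjSpace n k).IdealSheafData} (hI : I ≠ ⊥) {m : ℤ}
    (h : Curv2.IsGloballyGenerated (CohB1.tensorMod (ClSub.idealMod I) (Twist.twistProjSpace n k m))) : 0 ≤ m := by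
  by_contra hm
  have hOm := Groth.Agent.Ega3B.ProjTwist.isInvertible_twistProjSpace n k m
  have hmono := CohqA.IdealMod.mono_idealModι I
  -- the sections of `O(m)` vanish
  have h1 := S0844.result k n m 0 (by omega) (by omega)
  have h2 : Subsingleton Γ(Twist.twistProjSpace n k m, ⊤) :=
    (Ega3B.SectExact.secEquiv (Twist.twistProjSpace n k m)).symm.toEquiv.subsingleton
  -- so do those of `I(m)`
  let j : CohB1.tensorMod (ClSub.idealMod I) (Twist.twistProjSpace n k m) ⟶ Twist.twistProjSpace n k m :=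
    (CohqB.SerTw.tw (Twist.twistProjSpace n k m)).map (ClSub.idealModι I) ≫ (Ega2.Tens.lunit _).hom
  have hj : Mono j := by
    have hS : (ShortComplex.mk (ClSub.idealModι I) (cokernel.π _) (cokernel.condition _)).ShortExact :=
      { exact := ShortComplex.exact_cokernel _
        mono_f := hmono
        epi_g := inferInstanceAs (Epi (cokernel.π (ClSub.idealModι I))) }
    have h0 : Mono ((CohqB.SerTw.tw (Twist.twistProjSpace n k m)).map (ClSub.idealModι I)) :=
      (CohqB.SerTw.shortExact_tw hOm hS).mono_f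
    exact @mono_comp _ _ _ _ _ _ h0 _ _
  have h3 : Subsingleton Γ(CohB1.tensorMod (ClSub.idealMod I) (Twist.twistProjSpace n k m), ⊤) :=
    ⟨fun a b => VarietyB.ExactLoc.app_injective_of_mono j ⊤ (Subsingleton.elim _ _)⟩
  obtain ⟨ι, e, he⟩ := CurvesC.GGSec.exists_sections_of_isGloballyGenerated h
  have h4 : IsZero (CohB1.tensorMod (ClSub.idealMod I) (Twist.twistProjSpace n k m)) := by
    refine CohqB.DevSupport.isZero_of_support_eq_empty (Set.eq_empty_of_forall_notMem fun x hx => hx ?_)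
    have h5 := he x
    have h6 : (Set.range fun i => (CohB1.tensorMod (ClSub.idealMod I) (Twist.twistProjSpace n k m)).presheaf.germ ⊤ x
        trivial (e i)) ⊆ {0} := by
      rintro _ ⟨i, rfl⟩
      have h0 : e i = 0 := Subsingleton.elim _ _
      change (CohB1.tensorMod (ClSub.idealMod I) (Twist.twistProjSpace n k m)).presheaf.germ ⊤ x
        trivial (e i) = 0
      rw [h0, map_zero]
    have h7 := Submodule.span_mono (R := (CohB1.ProjSpace n k).presheaf.stalk x) h6
    rw [h5, Submodule.span_zero_singleton, top_le_iff] at h7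
    exact (Submodule.subsingleton_iff _).mp (subsingleton_of_bot_eq_top h7)
  have h5 : IsZero (ClSub.idealMod I) := by
    have h6 := (CohqB.SerTw.tw (dual (Twist.twistProjSpace n k m))).map_isZero h4
    have h7 : mc (CohB1.tensorMod (CohB1.tensorMod (ClSub.idealMod I) (Twist.twistProjSpace n k m))
        (dual (Twist.twistProjSpace n k m))) = mc (ClSub.idealMod I) := by
      have h8 : mc (Twist.twistProjSpace n k m) * mc (dual (Twist.twistProjSpace n k m)) = 1 := by
        rw [← mc_tensor, ← mc_one, mc_eq_iff]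
        exact ⟨@asIso _ _ _ _ (ev _) (isIso_ev hOm)⟩
      rw [mc_tensor, mc_tensor, mul_assoc, h8, mul_one]
    obtain ⟨i⟩ := (mc_eq_iff _ _).mp h7
    exact h6.of_iso i.symm
  apply hI
  refine Scheme.IdealSheafData.ext ?_
  funext U
  refine eq_bot_iff.mpr fun a ha => ?_
  obtain ⟨t, rfl⟩ := Dix.IdealModCartier.exists_val_eq I U ha
  have h6 := Ega3B.RpushAff.subsingleton_sections_of_isZero h5 U.1
  have h7 : t = 0 := Subsingleton.elim _ _
  rw [h7]
  exact map_zero ((ClSub.idealModι I).app U.1).hom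

theorem pow_ne_bot {X : Scheme.{u}} [IsIntegral X] {I : X.IdealSheafData} (hI : I ≠ ⊥) (p : ℕ) : I ^ p ≠ ⊥ := by
  intro h
  apply hI
  refine Scheme.IdealSheafData.ext ?_
  funext U
  rcases isEmpty_or_nonempty U.1 with hU | hU
  · have : Subsingleton Γ(X, U.1) := by
      have h1 : U.1 = ⊥ := by
        ext x
        exact ⟨fun hx => (hU.false ⟨x, hx⟩).elim, fun hx => hx.elim⟩
      rw [h1]
      exact inferInstance
    exact Subsingleton.elim _ _
  · have h1 : (I ^ p).ideal U = (⊥ : X.IdealSheafData).ideal U := by rw [h]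
    rw [Scheme.IdealSheafData.ideal_pow, Pi.pow_apply] at h1
    have h2 : (⊥ : X.IdealSheafData).ideal U = ⊥ := rfl
    rw [h2] at h1 ⊢
    exact eq_bot_iff.mpr fun a ha => by
      have h3 : a ^ p ∈ (I.ideal U) ^ p := Ideal.pow_mem_pow ha p
      rw [h1] at h3
      exact eq_zero_of_pow_eq_zero h3

/-- **Linear bounds.** -/
theorem linear_bounds (fuj : FujSA.{u} k) (hn : 1 ≤ n) {I : (CohB1.ProjSpace n k).IdealSheafData} (hI : I ≠ ⊥) :
    ∃ s e : ℝ, ∀ p : ℕ, 1 ≤ p → ∀ m : ℤ,
      (Curv2.IsMRegular k n (ClSub.idealMod (I ^ p)) m → s * (p : ℝ) ≤ (m : ℝ)) ∧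
      (s * (p : ℝ) + e ≤ (m : ℝ) → Curv2.IsMRegular k n (ClSub.idealMod (I ^ p)) m) := by
  let P := CohB1.ProjSpace n k
  let : P.Over (Spec (CommRingCat.of k)) := ⟨CohB1.ProjSpace.toSpec n k⟩
  have : IsProper (P ↘ Spec (CommRingCat.of k)) := inferInstanceAs (IsProper (CohB1.ProjSpace.toSpec n k))
  have hPN : IsNoetherian P := VarietyA.TwistExist.isNoetherian k P
  have hPi : IsIntegral P := Lefpen.H717.ProjIrr.isIntegral_projSpace n k
  obtain ⟨X, b, hb⟩ := S8859.result P I
  have hbp : IsProper b := IntSh.K877.ProjEmb.isProper_of_isProjective b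
    (S8910.result I (Pic13.H17.BlowPatch.isFiniteTypeIdeal I) b hb)
  obtain ⟨hXi, -, -⟩ := S2348.result I hI b hb
  let : X.Over (Spec (CommRingCat.of k)) := ⟨b ≫ (P ↘ Spec (CommRingCat.of k))⟩
  have : IsProper (X ↘ Spec (CommRingCat.of k)) := inferInstanceAs (IsProper (b ≫ (P ↘ Spec (CommRingCat.of k))))
  have hXN : IsNoetherian X := VarietyA.TwistExist.isNoetherian k X
  have hO1 : CohB1.IsAmple (Twist.twistProjSpace n k 1) := (S10962.result k n hn 1).mpr one_pos
  have hE : PicF.IsInvertible (ClSub.idealMod (I.comap b)) :=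
    Groth.Agent.Ega1.IdealGen.isInvertible_idealMod _ hb.1
  let h : Pic X := hyp b
  let e : Pic X := mk _ hE
  -- the class of `O(m) ⊗ (I·O)^p`
  have hO : ∀ m : ℤ, PicF.IsInvertible (Twist.twistProjSpace n k m) :=
    fun m => Groth.Agent.Ega3B.ProjTwist.isInvertible_twistProjSpace n k m
  have hcl : ∀ (p : ℕ) (m : ℤ), mk (CohB1.tensorMod (CohB1.tensorPow (ClSub.idealMod (I.comap b)) p)
      ((Scheme.Modules.pullback b).obj (Twist.twistProjSpace n k m)))
      (isInvertible_tensorMod (isInvertible_tensorPow hE p) (isInvertible_pullback b (hO m))) = h ^ m * e ^ p := by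
    intro p m
    rw [← mk_mul_mk (isInvertible_tensorPow hE p) (isInvertible_pullback b (hO m)), mk_tensorPow hE, mul_comm]
    congr 1
    exact mk_pullback_twist b m
  have hh : SAc h := by
    refine ⟨(Scheme.Modules.pullback b).obj (Twist.twistProjSpace n k 1), isInvertible_pullback b (hO 1), ?_, ?_⟩
    · have := mk_pullback_twist b 1
      rwa [zpow_one] at this
    · exact (SA.of_ample hO1).pull b (hO 1)
  have hgg : ∀ (q : ℕ) (r : ℤ), Curv2.IsGloballyGenerated (CohB1.tensorMod (ClSub.idealMod (I ^ q))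
      (Twist.twistProjSpace n k r)) → SAc (h ^ r * e ^ q) := by
    intro q r hg
    rw [← hcl]
    exact ⟨_, _, rfl, Blow.sa_of_gg hb (hO r) q hg⟩
  obtain ⟨n₀, htr⟩ := Blow.transfer k rfl hb
  obtain ⟨a₁, ha⟩ := Blow.exists_ample hb hO1
  have hA := ha a₁ le_rfl
  obtain ⟨c, hc⟩ := fuj X (X ↘ Spec (CommRingCat.of k)) _ hA
  have hAcl : mk _ hA.1 = h ^ (a₁ : ℤ) * e := by
    have h1 := isInvertible_pullback b (isInvertible_tensorPow (hO 1) a₁)
    rw [← mk_mul_mk hE h1, ← pull_mk b (isInvertible_tensorPow (hO 1) a₁), mk_tensorPow (hO 1), map_pow, mul_comm,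
      zpow_natCast]
    rfl
  refine RegNum.linear_bounds (fun p m => Curv2.IsGloballyGenerated (CohB1.tensorMod (ClSub.idealMod (I ^ p))
      (Twist.twistProjSpace n k m))) (fun p m => Curv2.IsMRegular k n (ClSub.idealMod (I ^ p)) m)
    (fun p _ m hm => S1647.result k n _ (isCoh_idealMod k n _) m hm)
    (fun p _ m hm => nonneg_of_gg k n hn (pow_ne_bot hI p) hm)
    (fun p _ => exists_reg k n _)
    (fun p _ m m' hm hmm' => Pic13.H496.Mum.regular_ge k n (isCoh_idealMod k n _) hm hmm')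
    c (n + a₁ * c) (n₀ + c) ?_
  rintro p hp hcp m ⟨q, r, hq, hg, hlt⟩ i hi hin
  obtain ⟨et⟩ := htr p (by omega) _ (hO (m - i)) i
  refine (et.toEquiv.subsingleton_congr).mpr ?_
  -- the nef part
  set m' : ℤ := m - i - a₁ * c with hm'
  have hN : PicF.IsInvertible (CohB1.tensorMod (CohB1.tensorPow (ClSub.idealMod (I.comap b)) (p - c))
      ((Scheme.Modules.pullback b).obj (Twist.twistProjSpace n k m'))) :=
    isInvertible_tensorMod (isInvertible_tensorPow hE _) (isInvertible_pullback b (hO _))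
  have hsa : SAc (h ^ m' * e ^ (p - c)) := by
    refine SAc.slope hh hq (hgg q r hg) (hlt.le.trans ?_)
    refine mul_le_mul_of_nonneg_right ?_ (Int.natCast_nonneg q)
    rw [hm']
    push_cast
    omega
  have hv := hc _ hN (by
    rw [← hcl] at hsa
    exact hsa.sa hN) c le_rfl i hi
  refine Pic13.H946.CoreGood.hh_congr (mc_eq (Classical.choice ((mk_eq_iff
    (isInvertible_tensorMod isInvertible_structureModule (isInvertible_tensorMod hN
      (isInvertible_tensorPow hA.1 c))) (isInvertible_tensorMod (isInvertible_tensorPow hE p)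
      (isInvertible_pullback b (hO (m - i))))).mp ?_))) hv
  rw [hcl, ← mk_mul_mk isInvertible_structureModule (isInvertible_tensorMod hN (isInvertible_tensorPow hA.1 c)),
    ← mk_mul_mk hN (isInvertible_tensorPow hA.1 c), mk_tensorPow hA.1, hAcl, hcl, ← one_def, one_mul]
  have h1 : p = (p - c) + c := by omega
  have h2 : m - i = m' + a₁ * c := by rw [hm']; ring
  rw [h2]
  conv_rhs => rw [h1]
  exact grp_id h e m' a₁ c (p - c)

end Main

end K104.RegPow
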