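import Groth.Agent.Variety.K104.FujGeo
import Groth.Agent.Variety.K104.RegPow
import Groth.Agent.Variety.K432.NefBasic
import Groth.Agent.Vanish.K909.KodDual
import Groth.Agent.Vanish.K909.NefIff
import Groth.Agent.PosLin.K931.NakC

/-!
# Fujita vanishing: the classes of nef and of semi-ample modules

`fujSA`, `fujNef`: uniform vanishing over semi-ample, resp. nef, modules on projective schemes, from alterations
(`K909.AltInterface.Alt k`) and Kodaira vanishing (`K909.KodDual.Kod k`, the statement of S16888).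
`row14171`: the statement of S14171.
-/

set_option autoImplicit false
universe u
open CategoryTheory CategoryTheory.Limits AlgebraicGeometry Opposite TopologicalSpace

namespace K104.Fuj

open Groth.Agent Groth.Agent.Fdesc.LocGen Groth.Agent.Fga.PicMon K909.Fujita

variable {k : Type u} [Field k]

theorem curveDeg_eq_dg {Y : Scheme.{u}} (p : Y ⟶ Spec (CommRingCat.of k)) [IsProper p]
    (h : topologicalKrullDim Y = 1) (L : Y.Modules) : Pic13.curveDeg k p L = K432.CurveDeg.dg p L := by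
  let : Y.Over (Spec (CommRingCat.of k)) := ⟨p⟩
  have : IsProper (Y ↘ Spec (CommRingCat.of k)) := inferInstanceAs (IsProper p)
  have h1 : topologicalKrullDim Y ≤ (1 : ℕ) := by rw [h]; exact le_rfl
  change FGA.eulerCharLE k Y L 1 - FGA.eulerCharLE k Y (Coh.structureModule Y) 1 = Curv2.deg k Y L 1
  rw [Fga.IntAdd.eulerCharLE_eq k Y 1 h1, Fga.IntAdd.eulerCharLE_eq k Y 1 h1]
  unfold Curv2.deg
  simp

theorem nef_iff_nef {X : Scheme.{u}} (f : X ⟶ Spec (CommRingCat.of k)) [IsProper f] {N : X.Modules}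
    (hN : PicF.IsInvertible N) : @K909.Kleiman.Nef k _ X ⟨f⟩ N ↔ K432.NefBasic.Nef f N := by
  constructor
  · intro h C hC hd
    have hd' : topologicalKrullDim C.subscheme = 1 := by rw [K432.NefBasic.topologicalKrullDim_subscheme, hd]
    rw [← curveDeg_eq_dg _ hd']
    exact h C.subscheme C.subschemeι hC hd'
  · intro h Y i _ hY hd
    refine (h.dg_nonneg hN hd i).trans_eq ?_
    exact (curveDeg_eq_dg (i ≫ f) hd _).symm

variable (k) in
/-- The class of nef modules. -/
def Cls.nef : Cls k where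
  P {X} f N := @K909.Kleiman.Nef k _ X ⟨f⟩ N
  pull {X Y} f _ g _ N hN h :=
    (nef_iff_nef (g ≫ f) (isInvertible_pullback g hN)).mpr (((nef_iff_nef f hN).mp h).pullback hN g)
  amp {X} f _ A N hA hN h := by
    let : X.Over (Spec (CommRingCat.of k)) := ⟨f⟩
    have : IsProper (X ↘ Spec (CommRingCat.of k)) := inferInstanceAs (IsProper f)
    obtain ⟨d, hd⟩ := EtpbcA.CdFinDim.exists_dim_le (X ↘ Spec (CommRingCat.of k))
    have h1 := K909.Kleiman.isAmple_tensorPow_tensor k (K931.NakC.nak k) X d hd N A h hN hA 1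
    obtain ⟨i⟩ := (mc_eq_iff (CohB1.tensorMod (CohB1.tensorPow N 1) A) (CohB1.tensorMod A N)).mp (by
      rw [mc_tensor, mc_tensor, mc_tensorPow, pow_one, mul_comm])
    exact CohqB.AmpCocycle.isAmple_of_iso i h1

theorem exists_nat {a : WithBot ℕ∞} {d : ℕ} (h : a ≤ d) (h0 : 0 ≤ a) : ∃ n : ℕ, a = n := by
  induction a using WithBot.recBotCoe with
  | bot => exact absurd h0 (by simp)
  | coe a =>
    have h1 : a ≤ d := by exact_mod_cast h
    obtain ⟨n, rfl⟩ := ENat.ne_top_iff_exists.mp (ne_top_of_le_ne_top (ENat.natCast_ne_top d) h1)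
    exact ⟨n, rfl⟩

theorem kod_of (kod : K909.KodDual.Kod.{u} k) : Kod k := by
  intro Y f _ _ _ A _
  let : Y.Over (Spec (CommRingCat.of k)) := ⟨f⟩
  have : IsProper (Y ↘ Spec (CommRingCat.of k)) := inferInstanceAs (IsProper f)
  have : Smooth (Y ↘ Spec (CommRingCat.of k)) := inferInstanceAs (Smooth f)
  obtain ⟨d, hd⟩ := EtpbcA.CdFinDim.exists_dim_le (Y ↘ Spec (CommRingCat.of k))
  have : Nonempty (IrreducibleCloseds Y) :=
    ⟨⟨closure {genericPoint Y}, isIrreducible_singleton.closure, isClosed_closure⟩⟩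
  obtain ⟨n, hn⟩ := exists_nat hd Order.krullDim_nonneg
  obtain ⟨W, hW, -, h⟩ := K909.KodDual.exists_dual k Y n hn kod
  exact ⟨W, hW, h⟩

theorem fujNef (alt : K909.AltInterface.Alt k) (kod : K909.KodDual.Kod.{u} k) {X : Scheme.{u}}
    [X.Over (Spec (CommRingCat.of k))] [IsProper (X ↘ Spec (CommRingCat.of k))] {H : X.Modules}
    (hH : CohB1.IsAmple H) (F : X.Modules) (hF : Coh.IsCoh F) : VanGe (K909.Kleiman.Nef k X) H F 1 :=
  fujita (Cls.nef k) alt (kod_of kod) (X ↘ Spec (CommRingCat.of k)) hH F hF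

theorem fujSA (alt : K909.AltInterface.Alt k) (kod : K909.KodDual.Kod.{u} k) : RegPow.FujSA.{u} k := by
  intro X f _ _ H hH
  let : X.Over (Spec (CommRingCat.of k)) := ⟨f⟩
  have : IsProper (X ↘ Spec (CommRingCat.of k)) := inferInstanceAs (IsProper f)
  have hNoeth : IsNoetherian X := VarietyA.TwistExist.isNoetherian k X
  exact fujita (Cls.sa k) alt (kod_of kod) f hH _ (VarietyA.CurveFin.isCoh_of_isInvertible isInvertible_structureModule)

/-- The statement of S14171. -/
theorem row14171 (alt : K909.AltInterface.Alt k) (kod : K909.KodDual.Kod.{u} k)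
    (n : ℕ) (hn : 1 ≤ n) (I : (CohB1.ProjSpace n k).IdealSheafData) (hI : I ≠ ⊥) :
    ∃ s e : ℝ, ∀ p : ℕ, 1 ≤ p → ∀ m : ℤ,
      (Curv2.IsMRegular k n (ClSub.idealMod (I ^ p)) m → s * (p : ℝ) ≤ (m : ℝ)) ∧
      (s * (p : ℝ) + e ≤ (m : ℝ) → Curv2.IsMRegular k n (ClSub.idealMod (I ^ p)) m) :=
  RegPow.linear_bounds k n (fujSA alt kod) hn hI

end K104.Fuj
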