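import Groth.Prelude.Def_CAlgX
import Mathlib.RingTheory.Ideal.MinimalPrime.Basic
import Mathlib.RingTheory.MvPolynomial.Homogeneous
import Mathlib.RingTheory.MvPolynomial.Ideal

/-!
# Symbolic powers of radical ideals generated by a quasi-regular sequence
-/

set_option autoImplicit false
universe u

namespace K104.SymRing

variable {R : Type u} [CommRing R]

/-- A polynomial homogeneous of degree `j` with coefficients in `I = (f)` has its value in `I ^ (j + 1)`. -/
theorem eval_mem {c : ℕ} (f : Fin c → R) {I : Ideal R} (hI : I = Ideal.span (Set.range f)) {j : ℕ}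
    {P : MvPolynomial (Fin c) R} (hP : P.IsHomogeneous j) (h : ∀ d, P.coeff d ∈ I) :
    MvPolynomial.eval f P ∈ I ^ (j + 1) := by
  rw [MvPolynomial.eval_eq]
  refine Ideal.sum_mem _ fun d hd => ?_
  rw [pow_succ']
  refine Ideal.mul_mem_mul (h d) ?_
  have hdeg : d.degree = j := by
    have := hP (MvPolynomial.mem_support_iff.mp hd)
    rw [Finsupp.degree_eq_weight_one (R := ℕ)]
    exact this
  rw [← hdeg]
  have h2 : I ^ d.degree = ∏ i ∈ d.support, I ^ d i := by
    rw [Finset.prod_pow_eq_pow_sum]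
    rfl
  rw [h2]
  refine Ideal.prod_mem_prod fun i _ => Ideal.pow_mem_pow ?_ _
  rw [hI]
  exact Ideal.subset_span ⟨i, rfl⟩

theorem mem_pow {c : ℕ} {f : Fin c → R} (hq : CAlgX.IsQuasiRegular f) {I : Ideal R}
    (hI : I = Ideal.span (Set.range f)) (hrad : I.IsRadical) (p : ℕ) {x : R}
    (hx : ∀ q ∈ I.minimalPrimes, ∃ s ∉ q, s * x ∈ I ^ p) : x ∈ I ^ p := by
  have key : ∀ j ≤ p, x ∈ I ^ j := by
    intro j
    induction j with
    | zero => intro _; rw [pow_zero, Ideal.one_eq_top]; trivial
    | succ j ih =>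
      intro hj
      have h1 := ih (by omega)
      rw [hI] at h1
      obtain ⟨P, hP, rfl⟩ := (Ideal.mem_span_pow_iff_exists_isHomogeneous f x).mp h1
      refine eval_mem f hI hP fun d => ?_
      rw [← hrad.radical, ← Ideal.sInf_minimalPrimes, Submodule.mem_sInf]
      intro q hqm
      obtain ⟨s, hs, hsx⟩ := hx q hqm
      have h2 : MvPolynomial.eval f (MvPolynomial.C s * P) ∈ Ideal.span (Set.range f) ^ (j + 1) := by
        rw [map_mul, MvPolynomial.eval_C, ← hI]
        exact Ideal.pow_le_pow_right hj hsx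
      have h3 := hq j (MvPolynomial.C s * P) (by simpa using (MvPolynomial.isHomogeneous_C _ s).mul hP) h2 d
      rw [MvPolynomial.coeff_C_mul, ← hI] at h3
      exact (hqm.1.1.mem_or_mem (hqm.1.2 h3)).resolve_left hs
  exact key p le_rfl

end K104.SymRing
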