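import Groth.Prelude.Def_SymbPow
import Groth.Prelude.Def_RegImm
import Groth.Agent.Sga2.LefPow644
import Groth.Agent.Ega3B.Devissage
import Groth.Agent.Variety.K104.SymRing
import Groth.Agent.Variety.K104.RegPow
import Groth.Agent.Dix.IdealModCartier
import Groth.Agent.VarietyB.ExactLoc
import Groth.Agent.S12905
import Groth.Agent.S5802

/-!
# Regularity of symbolic powers against regularity of powers

`Agr I p x`: near `x` the symbolic power and the power of `I` agree.  `isMRegular_symb`: if this holds outside a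
subspace of dimension `≤ 0`, then `I^p` `m`-regular implies `I^(p)` `m`-regular.
-/

set_option autoImplicit false
universe u
open CategoryTheory CategoryTheory.Limits AlgebraicGeometry Opposite TopologicalSpace

namespace K104.Symb

open Groth.Agent Groth.Agent.Fdesc.LocGen Groth.Agent.Dix.IdealModCartier Groth.Agent.CycB.StalkExact

section Ring

variable {R : Type u} [CommRing R]

theorem exists_mul_mem {I q : Ideal R} (hrad : I.IsRadical) (hq : q ∈ I.minimalPrimes) {x : R} (hx : x ∈ q) :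
    ∃ s ∉ q, s * x ∈ I := by
  have := hq.1.1
  by_contra hcon
  have hdisj : Disjoint (I : Set R) ((q.primeCompl ⊔ Submonoid.powers x : Submonoid R) : Set R) := by
    rw [Set.disjoint_left]
    intro y hy hy'
    obtain ⟨s, hs, _, ⟨n, rfl⟩, rfl⟩ := Submonoid.mem_sup.mp hy'
    refine hcon ⟨s, hs, hrad ⟨n + 1, ?_⟩⟩
    have h1 : (s * x) ^ (n + 1) = s ^ n * x * (s * x ^ n) := by ring
    rw [h1]
    exact I.mul_mem_left _ hy
  obtain ⟨P, hP, hIP, hd⟩ := Ideal.exists_le_prime_disjoint I _ hdisj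
  have hPq : P ≤ q := fun y hy => by_contra fun h => Set.disjoint_left.mp hd hy
    (Submonoid.mem_sup_left (show y ∈ q.primeCompl from h))
  exact Set.disjoint_left.mp hd (hq.2 ⟨hP, hIP⟩ hPq hx) (Submonoid.mem_sup_right (Submonoid.mem_powers x))

theorem exists_mul_mem_pow {I q : Ideal R} (hrad : I.IsRadical) (hq : q ∈ I.minimalPrimes) {p : ℕ} {x : R}
    (hx : x ∈ q ^ p) : ∃ s ∉ q, s * x ∈ I ^ p := by
  have := hq.1.1
  have h1 : q.map (algebraMap R (Localization.AtPrime q)) ≤ I.map (algebraMap R (Localization.AtPrime q)) := by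
    rw [Ideal.map_le_iff_le_comap]
    intro y hy
    obtain ⟨s, hs, h⟩ := exists_mul_mem hrad hq hy
    rw [Ideal.mem_comap, IsLocalization.algebraMap_mem_map_algebraMap_iff q.primeCompl]
    exact ⟨s, hs, h⟩
  have h2 : algebraMap R (Localization.AtPrime q) x ∈ (I ^ p).map (algebraMap R (Localization.AtPrime q)) := by
    rw [Ideal.map_pow]
    refine Ideal.pow_right_mono h1 p ?_
    rw [← Ideal.map_pow]
    exact Ideal.mem_map_of_mem _ hx
  rw [IsLocalization.algebraMap_mem_map_algebraMap_iff q.primeCompl] at h2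
  obtain ⟨s, hs, h⟩ := h2
  exact ⟨s, hs, h⟩

theorem exists_of_mem_symbPow {I q : Ideal R} (hrad : I.IsRadical) (hq : q ∈ I.minimalPrimes) {p : ℕ} {x : R}
    (hx : x ∈ SymbPow.symbPow I p) : ∃ s ∉ q, s * x ∈ I ^ p := by
  have := hq.1.1
  obtain ⟨s, hs, h⟩ := (SymbPow.mem_primePow_iff_exists q p x).mp ((SymbPow.mem_symbPow_iff I p x).mp hx q hq)
  obtain ⟨t, ht, h'⟩ := exists_mul_mem_pow hrad hq h
  refine ⟨t * s, fun hts => ?_, by rwa [mul_assoc]⟩
  exact (hq.1.1.mem_or_mem hts).elim ht hs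

/-- The symbolic powers of a radical ideal generated by a regular sequence are its powers. -/
theorem symbPow_eq_of_regular {rs : List R} (h : RingTheory.Sequence.IsWeaklyRegular R rs) {I : Ideal R}
    (hI : I = Ideal.ofList rs) (hrad : I.IsRadical) (p : ℕ) : SymbPow.symbPow I p = I ^ p := by
  refine le_antisymm (fun x hx => ?_) (SymbPow.pow_le_symbPow I p)
  have h1 : RingTheory.Sequence.IsWeaklyRegular R (List.ofFn rs.get) := by rwa [List.ofFn_get]
  have hq := S5802.result R rs.length rs.get h1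
  have hI' : I = Ideal.span (Set.range rs.get) := by
    rw [hI, Ideal.ofList]
    congr 1
    ext a
    simp [List.mem_iff_get]
  refine SymRing.mem_pow hq hI' hrad p fun q hq => ?_
  exact exists_of_mem_symbPow hrad hq hx

end Ring

section Scheme

variable {X : Scheme.{u}}

theorem exists_incl {I J : X.IdealSheafData} (h : I ≤ J) :
    ∃ φ : ClSub.idealMod I ⟶ ClSub.idealMod J, φ ≫ ClSub.idealModι J = ClSub.idealModι I := by
  have h1 : ClSub.idealModι I ≫ ClSub.toSubscheme J = 0 := by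
    have h2 : ClSub.idealModι I ≫ ClSub.toSubscheme I = 0 := kernel.condition _
    rw [← Sga2.LefPow644.toSubscheme_quotMap h, ← Category.assoc, h2, zero_comp]
  exact ⟨kernel.lift _ _ h1, kernel.lift_ι _ _ _⟩

/-- Where two ideals `I ≤ J` agree locally at sections up to shrinking, the cokernel of the inclusion vanishes. -/
theorem notMem_support {I J : X.IdealSheafData} (φ : ClSub.idealMod I ⟶ ClSub.idealMod J)
    (hφ : φ ≫ ClSub.idealModι J = ClSub.idealModι I) (U : X.affineOpens) {x : X} (hx : x ∈ U.1)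
    (h : ∀ V : X.affineOpens, V.1 ≤ U.1 → x ∈ V.1 → ∀ a ∈ J.ideal V, ∃ f : Γ(X, V.1), x ∈ X.basicOpen f ∧
      ores (X.basicOpen_le f) a ∈ I.ideal (X.affineBasicOpen f)) :
    x ∉ CohB1.support (cokernel φ) := by
  refine Ega3B.Devissage.notMem_support_cokernel φ x fun t => ?_
  obtain ⟨W, hxW, hWU, s, rfl⟩ := VarietyB.ExactLoc.exists_germ_le (ClSub.idealMod J) hx t
  obtain ⟨f, hfW, hxf⟩ := U.2.exists_basicOpen_le ⟨x, hxW⟩ hx
  obtain ⟨g, hxg, hg⟩ := h (X.affineBasicOpen f) (X.basicOpen_le f) hxf _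
    (val_mem J (X.affineBasicOpen f) (res _ hfW s))
  obtain ⟨s', hs'⟩ := exists_val_eq I (X.affineBasicOpen g) hg
  have hle : (X.affineBasicOpen g).1 ≤ W := (X.basicOpen_le g).trans hfW
  have h1 : ∀ s' : Γ(ClSub.idealMod I, (X.affineBasicOpen g).1), val J (φ.app _ s') = val I s' := by
    intro s'
    change (φ ≫ ClSub.idealModι J).app _ s' = (ClSub.idealModι I).app _ s'
    rw [hφ]
  have h2 : φ.app (X.affineBasicOpen g).1 s' = res _ hle s := by
    apply val_injective
    rw [h1, hs', ← val_res]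
    exact congrArg (val J) (res_res (ClSub.idealMod J) hfW (X.basicOpen_le g) s)
  refine ⟨(ClSub.idealMod I).presheaf.germ (X.affineBasicOpen g).1 x hxg s', ?_⟩
  rw [stalkLin_germ, h2]
  exact TopCat.Presheaf.germ_res_apply _ _ _ _ _

theorem notMem_support_of_eq {I J : X.IdealSheafData} (φ : ClSub.idealMod I ⟶ ClSub.idealMod J)
    (hφ : φ ≫ ClSub.idealModι J = ClSub.idealModι I) (U : X.affineOpens) {x : X} (hx : x ∈ U.1)
    (h : J.ideal U = I.ideal U) : x ∉ CohB1.support (cokernel φ) := by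
  refine notMem_support φ hφ U hx fun V hVU hxV a ha => ⟨1, ?_, ?_⟩
  · rw [Scheme.basicOpen_of_isUnit _ isUnit_one]
    exact hxV
  · have h1 : J.ideal V = I.ideal V := by
      rw [← J.map_ideal hVU, ← I.map_ideal hVU, h]
    rw [h1] at ha
    rw [← I.map_ideal_basicOpen]
    exact Ideal.mem_map_of_mem _ ha

/-- The dimension of a closed subset containing no generic points. -/
theorem dim_le_zero {A K : Set X} (hK : IsClosed K) (hKA : K ⊆ A)
    (hdim : topologicalKrullDim A ≤ 1) (h : ∀ η ∈ K, ∃ y ∈ A, y ⤳ η ∧ y ≠ η) : topologicalKrullDim K ≤ 0 := by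
  refine Order.krullDim_nonpos_iff_forall_isMax.mpr fun B => ?_
  rw [isMax_iff_forall_not_lt]
  intro B' hlt
  have hj := (Topology.IsEmbedding.inclusion hKA).isInducing
  have h1 := IrreducibleCloseds.map_strictMono_of_isInducing hj hlt
  rcases Order.krullDim_le_one_iff.mp hdim (IrreducibleCloseds.map _ hj.continuous B') with h2 | h2
  · exact isMin_iff_forall_not_lt.mp h2 _ h1
  · have himg : IsIrreducible (Subtype.val '' (B' : Set K)) := B'.2.image _ continuous_subtype_val.continuousOn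
    have hcl : IsClosed (Subtype.val '' (B' : Set K)) := hK.isClosedEmbedding_subtypeVal.isClosedMap _ B'.3
    obtain ⟨η, hη⟩ := QuasiSober.sober himg hcl
    obtain ⟨⟨η', hη'K⟩, hη'B, rfl⟩ := hη.mem
    obtain ⟨y, hyA, hyη, hne⟩ := h η' hη'K
    refine isMax_iff_forall_not_lt.mp h2 ⟨closure {(⟨y, hyA⟩ : A)}, isIrreducible_singleton.closure, isClosed_closure⟩
      (lt_of_le_not_ge ?_ ?_)
    · change closure _ ⊆ closure _
      refine closure_minimal ?_ isClosed_closure
      rintro _ ⟨z, hz, rfl⟩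
      have h3 : η' ⤳ z.1 := hη.specializes ⟨z, hz, rfl⟩
      have h4 : (⟨y, hyA⟩ : A) ⤳ Set.inclusion hKA z := (subtype_specializes_iff _ _).mpr (hyη.trans h3)
      exact h4.mem_closure
    · intro hle
      have h3 : (⟨y, hyA⟩ : A) ∈ closure (Set.inclusion hKA '' (B' : Set K)) := hle (subset_closure rfl)
      have h4 : y ∈ closure (Subtype.val '' (B' : Set K)) := by
        have h5 := mem_closure_image continuous_subtype_val.continuousAt h3
        rwa [← Set.image_comp] at h5
      rw [hcl.closure_eq, ← hη.def] at h4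
      exact hne (((specializes_iff_mem_closure.mpr h4).antisymm hyη).symm.eq)

end Scheme

section Main

variable (k : Type u) [Field k] (n : ℕ)

theorem isMRegular_symb {I : (CohB1.ProjSpace n k).IdealSheafData} {p : ℕ}
    (h : ∀ φ : ClSub.idealMod (I ^ p) ⟶ ClSub.idealMod (SymbPow.sheaf I p),
      φ ≫ ClSub.idealModι (SymbPow.sheaf I p) = ClSub.idealModι (I ^ p) →
        topologicalKrullDim (CohB1.support (cokernel φ)) ≤ 0)
    {m : ℤ} (hm : Curv2.IsMRegular k n (ClSub.idealMod (I ^ p)) m) :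
    Curv2.IsMRegular k n (ClSub.idealMod (SymbPow.sheaf I p)) m := by
  obtain ⟨φ, hφ⟩ := exists_incl (SymbPow.pow_le_sheaf I p)
  have : Mono φ := by
    have := CohqA.IdealMod.mono_idealModι (I ^ p)
    rw [← hφ] at this
    exact mono_of_mono φ (ClSub.idealModι (SymbPow.sheaf I p))
  exact S12905.result k n _ _ (RegPow.isCoh_idealMod k n _) (RegPow.isCoh_idealMod k n _) φ (h φ hφ) m hm

/-- Part (i) of S15677. -/
theorem finite_points {I : (CohB1.ProjSpace n k).IdealSheafData}
    (T : Set (CohB1.ProjSpace n k)) (hT : T.Finite) (hTcl : ∀ t ∈ T, IsClosed ({t} : Set (CohB1.ProjSpace n k))) {p : ℕ}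
    (hagree : ∀ U : (CohB1.ProjSpace n k).affineOpens,
      Disjoint ((U : (CohB1.ProjSpace n k).Opens) : Set (CohB1.ProjSpace n k)) T →
        (SymbPow.sheaf I p).ideal U = (I ^ p).ideal U)
    {m : ℤ} (hm : Curv2.IsMRegular k n (ClSub.idealMod (I ^ p)) m) :
    Curv2.IsMRegular k n (ClSub.idealMod (SymbPow.sheaf I p)) m := by
  refine isMRegular_symb k n (fun φ hφ => ?_) hm
  have hcl : IsClosed T := by
    rw [← Set.biUnion_of_singleton T]
    exact hT.isClosed_biUnion hTcl
  have h1 : CohB1.support (cokernel φ) ⊆ T := by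
    intro x hx
    by_contra hxT
    obtain ⟨U, hU, hxU, hUT⟩ := exists_isAffineOpen_mem_and_subset (x := x) (U := ⟨Tᶜ, hcl.isOpen_compl⟩) hxT
    exact notMem_support_of_eq φ hφ ⟨U, hU⟩ hxU
      (hagree ⟨U, hU⟩ (Set.disjoint_left.mpr fun y hy hyT => hUT hy hyT)) hx
  refine (Fga.DimLt.topologicalKrullDim_mono h1).trans ?_
  have : T1Space T := ⟨fun t => by
    have h2 := (hTcl t.1 t.2).preimage (continuous_subtype_val (p := fun y => y ∈ T))
    have h3 : (Subtype.val ⁻¹' {t.1} : Set T) = {t} := by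
      ext y
      simp [Subtype.ext_iff]
    rwa [h3] at h2⟩
  have := hT.to_subtype
  have : DiscreteTopology T := inferInstance
  exact topologicalKrullDim_zero_of_discreteTopology T

theorem agree_of_notMem_support {X : Scheme.{u}} {I : X.IdealSheafData} {p : ℕ} {x : X} (hx : x ∉ I.support) :
    ∃ U : X.affineOpens, x ∈ U.1 ∧ (SymbPow.sheaf I p).ideal U = (I ^ p).ideal U := by
  obtain ⟨U, hU, hxU, hUT⟩ := exists_isAffineOpen_mem_and_subset (x := x)
    (U := ⟨(I.support : Set X)ᶜ, I.support.isClosed.isOpen_compl⟩) hx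
  have h1 : I.ideal ⟨U, hU⟩ = ⊤ := by
    by_contra hne
    obtain ⟨q, hq, hle⟩ := Ideal.exists_le_maximal _ hne
    have hyU := SymbPow.fromSpec_mem ⟨U, hU⟩ ⟨q, hq.isPrime⟩
    refine hUT hyU ?_
    change _ ∈ I.support
    rw [SymbPow.mem_support_iff_ideal_le I ⟨U, hU⟩ hyU, SymbPow.primeIdealOf_fromSpec ⟨U, hU⟩ ⟨q, hq.isPrime⟩ hyU]
    exact hle
  have h2 : (I ^ p).ideal ⟨U, hU⟩ = ⊤ := by
    rw [Scheme.IdealSheafData.ideal_pow, Pi.pow_apply, h1, Ideal.top_pow]
  refine ⟨⟨U, hU⟩, hxU, ?_⟩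
  rw [h2, eq_top_iff, ← h2]
  exact SymbPow.pow_le_sheaf I p _

/-- Part (i) of S15679. -/
theorem lci {I : (CohB1.ProjSpace n k).IdealSheafData} (hrad : I.radical = I)
    (hN : topologicalKrullDim ↥((I.subschemeι : I.subscheme ⟶ CohB1.ProjSpace n k) ''
      {z : ↥I.subscheme | ¬ RegImm.IsRegularImmersionAt RegImm.Kind.regular I.subschemeι z}) ≤ 0) (p : ℕ)
    {m : ℤ} (hm : Curv2.IsMRegular k n (ClSub.idealMod (I ^ p)) m) :
    Curv2.IsMRegular k n (ClSub.idealMod (SymbPow.sheaf I p)) m := by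
  refine isMRegular_symb k n (fun φ hφ => ?_) hm
  refine (Fga.DimLt.topologicalKrullDim_mono ?_).trans hN
  intro x hx
  by_cases hxs : x ∈ I.support
  · obtain ⟨z, rfl⟩ : x ∈ Set.range I.subschemeι := by
      rw [I.range_subschemeι]
      exact hxs
    refine ⟨z, fun hz => ?_, rfl⟩
    obtain ⟨U, hzU, -, rs, hrs, hker⟩ := hz
    refine notMem_support_of_eq φ hφ U hzU ?_ hx
    have h1 : I.ideal U = Ideal.ofList rs := by
      rw [← hker, I.ker_subschemeι_app]
    have h2 : (I.ideal U).IsRadical := by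
      rw [← hrad]
      exact Ideal.radical_isRadical _
    rw [SymbPow.ideal_sheaf_eq_symbPow, Scheme.IdealSheafData.ideal_pow, Pi.pow_apply]
    exact symbPow_eq_of_regular hrs.toIsWeaklyRegular h1 h2 p
  · exfalso
    obtain ⟨U, hxU, h⟩ := agree_of_notMem_support (p := p) hxs
    exact notMem_support_of_eq φ hφ U hxU h hx

/-- Part (i) of S15680. -/
theorem curve {I : (CohB1.ProjSpace n k).IdealSheafData} (hrad : I.radical = I)
    (hdim : topologicalKrullDim ↥I.subscheme ≤ 1) (p : ℕ)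
    {m : ℤ} (hm : Curv2.IsMRegular k n (ClSub.idealMod (I ^ p)) m) :
    Curv2.IsMRegular k n (ClSub.idealMod (SymbPow.sheaf I p)) m := by
  refine isMRegular_symb k n (fun φ hφ => ?_) hm
  have := RegPow.isNoetherian_proj k n
  have hsub : CohB1.support (cokernel φ) ⊆ (I.support : Set _) := by
    intro x hx
    by_contra hxs
    obtain ⟨U, hxU, h⟩ := agree_of_notMem_support (p := p) hxs
    exact notMem_support_of_eq φ hφ U hxU h hx
  have hcoh : Coh.IsCoh (cokernel φ) :=
    Sga67.CohBasic.isCoh_cokernel φ (RegPow.isCoh_idealMod k n _).1 (RegPow.isCoh_idealMod k n _)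
  refine dim_le_zero (S0020.result _ _ hcoh.2) hsub ?_ fun η hη => ?_
  · rw [← I.range_subschemeι]
    exact (VarietyB.DegComp.topologicalKrullDim_range_eq I.subschemeι).le.trans hdim
  · by_contra hcon
    have hgen : η ∈ SymbPow.genPts I := ⟨hsub hη, fun y hy hyη => by_contra fun hne => hcon ⟨y, hy, hyη, hne⟩⟩
    obtain ⟨U, hU, hxU, -⟩ := exists_isAffineOpen_mem_and_subset (x := η) (U := ⊤) trivial
    refine notMem_support φ hφ ⟨U, hU⟩ hxU (fun V _ hxV a ha => ?_) hη
    have h2 : (I.ideal V).IsRadical := by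
      rw [← hrad]
      exact Ideal.radical_isRadical _
    rw [SymbPow.ideal_sheaf_eq_symbPow] at ha
    obtain ⟨s, hs, hsa⟩ := exists_of_mem_symbPow h2 ((SymbPow.mem_genPts_iff_minimalPrimes I V hxV).mp hgen) ha
    have hxs : η ∈ (CohB1.ProjSpace n k).basicOpen s := by
      rw [(CohB1.ProjSpace n k).mem_basicOpen s η hxV]
      by_contra hnu
      apply hs
      rw [SymbPow.primeIdealOf_asIdeal_eq_comap, Ideal.mem_comap, IsLocalRing.mem_maximalIdeal]
      exact hnu
    refine ⟨s, hxs, ?_⟩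
    have hu : IsUnit (ores ((CohB1.ProjSpace n k).basicOpen_le s) s) := RingedSpace.isUnit_res_basicOpen _ s
    have h3 : ores ((CohB1.ProjSpace n k).basicOpen_le s) (s * a) ∈
        (I ^ p).ideal ((CohB1.ProjSpace n k).affineBasicOpen s) := by
      rw [← (I ^ p).map_ideal_basicOpen]
      refine Ideal.mem_map_of_mem _ ?_
      rw [Scheme.IdealSheafData.ideal_pow]
      exact hsa
    rw [map_mul] at h3
    exact (Ideal.unit_mul_mem_iff_mem ((I ^ p).ideal ((CohB1.ProjSpace n k).affineBasicOpen s)) hu).mp h3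

end Main

end K104.Symb
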