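import Groth.Agent.Variety.K104.FujInp
import Groth.Agent.Variety.K104.Symb

/-!
# Regularity of symbolic powers: S15677, S15679, S15680

The statements from alterations (`K909.AltInterface.Alt k`) and Kodaira vanishing (`K909.KodDual.Kod k`).
-/

set_option autoImplicit false
universe u
open CategoryTheory CategoryTheory.Limits AlgebraicGeometry Opposite TopologicalSpace

namespace K104.SymbRows

variable {k : Type u} [Field k] (alt : K909.AltInterface.Alt k) (kod : K909.KodDual.Kod.{u} k)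

include alt kod

theorem part_two {n : ℕ} (hn : 1 ≤ n) {I : (CohB1.ProjSpace n k).IdealSheafData} (hI : I ≠ ⊥)
    (h : ∀ p : ℕ, 1 ≤ p → ∀ m : ℤ, Curv2.IsMRegular k n (ClSub.idealMod (I ^ p)) m →
      Curv2.IsMRegular k n (ClSub.idealMod (SymbPow.sheaf I p)) m) :
    ∃ s e : ℝ, ∀ p : ℕ, 1 ≤ p → ∀ m : ℤ,
        (Curv2.IsMRegular k n (ClSub.idealMod (I ^ p)) m → s * (p : ℝ) ≤ (m : ℝ)) ∧
        (s * (p : ℝ) + e ≤ (m : ℝ) → Curv2.IsMRegular k n (ClSub.idealMod (SymbPow.sheaf I p)) m) := by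
  obtain ⟨s, e, h1⟩ := Fuj.row14171 alt kod n hn I hI
  exact ⟨s, e, fun p hp m => ⟨(h1 p hp m).1, fun h2 => h p hp m ((h1 p hp m).2 h2)⟩⟩

theorem row15677 (n : ℕ) (hn : 1 ≤ n) (I : (CohB1.ProjSpace n k).IdealSheafData) (hI : I ≠ ⊥)
    (T : Set (CohB1.ProjSpace n k)) (hT : T.Finite) (hTcl : ∀ t ∈ T, IsClosed ({t} : Set (CohB1.ProjSpace n k)))
    (hagree : ∀ p : ℕ, 1 ≤ p → ∀ U : (CohB1.ProjSpace n k).affineOpens,
      Disjoint ((U : (CohB1.ProjSpace n k).Opens) : Set (CohB1.ProjSpace n k)) T → (SymbPow.sheaf I p).ideal U = (I ^ p).ideal U) :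
    (∀ p : ℕ, 1 ≤ p → ∀ m : ℤ, Curv2.IsMRegular k n (ClSub.idealMod (I ^ p)) m →
        Curv2.IsMRegular k n (ClSub.idealMod (SymbPow.sheaf I p)) m) ∧
    (∃ s e : ℝ, ∀ p : ℕ, 1 ≤ p → ∀ m : ℤ,
        (Curv2.IsMRegular k n (ClSub.idealMod (I ^ p)) m → s * (p : ℝ) ≤ (m : ℝ)) ∧
        (s * (p : ℝ) + e ≤ (m : ℝ) → Curv2.IsMRegular k n (ClSub.idealMod (SymbPow.sheaf I p)) m)) := by
  have h : ∀ p : ℕ, 1 ≤ p → ∀ m : ℤ, Curv2.IsMRegular k n (ClSub.idealMod (I ^ p)) m →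
      Curv2.IsMRegular k n (ClSub.idealMod (SymbPow.sheaf I p)) m :=
    fun p hp m hm => Symb.finite_points k n T hT hTcl (hagree p hp) hm
  exact ⟨h, part_two alt kod hn hI h⟩

theorem row15679 (n : ℕ) (hn : 1 ≤ n) (I : (CohB1.ProjSpace n k).IdealSheafData) (hI : I ≠ ⊥) (hrad : I.radical = I)
    (hN : topologicalKrullDim ↥((I.subschemeι : I.subscheme ⟶ CohB1.ProjSpace n k) ''
      {z : ↥I.subscheme | ¬ RegImm.IsRegularImmersionAt RegImm.Kind.regular I.subschemeι z}) ≤ 0) :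
    (∀ p : ℕ, 1 ≤ p → ∀ m : ℤ, Curv2.IsMRegular k n (ClSub.idealMod (I ^ p)) m →
        Curv2.IsMRegular k n (ClSub.idealMod (SymbPow.sheaf I p)) m) ∧
    (∃ s e : ℝ, ∀ p : ℕ, 1 ≤ p → ∀ m : ℤ,
        (Curv2.IsMRegular k n (ClSub.idealMod (I ^ p)) m → s * (p : ℝ) ≤ (m : ℝ)) ∧
        (s * (p : ℝ) + e ≤ (m : ℝ) → Curv2.IsMRegular k n (ClSub.idealMod (SymbPow.sheaf I p)) m)) := by
  have h : ∀ p : ℕ, 1 ≤ p → ∀ m : ℤ, Curv2.IsMRegular k n (ClSub.idealMod (I ^ p)) m →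
      Curv2.IsMRegular k n (ClSub.idealMod (SymbPow.sheaf I p)) m :=
    fun p _ m hm => Symb.lci k n hrad hN p hm
  exact ⟨h, part_two alt kod hn hI h⟩

theorem row15680 (n : ℕ) (hn : 1 ≤ n) (I : (CohB1.ProjSpace n k).IdealSheafData) (hI : I ≠ ⊥) (hrad : I.radical = I)
    (hdim : topologicalKrullDim ↥I.subscheme ≤ 1) :
    (∀ p : ℕ, 1 ≤ p → ∀ m : ℤ, Curv2.IsMRegular k n (ClSub.idealMod (I ^ p)) m →
        Curv2.IsMRegular k n (ClSub.idealMod (SymbPow.sheaf I p)) m) ∧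
    (∃ s e : ℝ, ∀ p : ℕ, 1 ≤ p → ∀ m : ℤ,
        (Curv2.IsMRegular k n (ClSub.idealMod (I ^ p)) m → s * (p : ℝ) ≤ (m : ℝ)) ∧
        (s * (p : ℝ) + e ≤ (m : ℝ) → Curv2.IsMRegular k n (ClSub.idealMod (SymbPow.sheaf I p)) m)) := by
  have h : ∀ p : ℕ, 1 ≤ p → ∀ m : ℤ, Curv2.IsMRegular k n (ClSub.idealMod (I ^ p)) m →
      Curv2.IsMRegular k n (ClSub.idealMod (SymbPow.sheaf I p)) m :=
    fun p _ m hm => Symb.curve k n hrad hdim p hm
  exact ⟨h, part_two alt kod hn hI h⟩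

end K104.SymbRows
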