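import Groth.Agent.Variety.K104.Leray
import Groth.Agent.Variety.K104.SemiA
import Groth.Agent.Pic13.H17.BlowPatch
import Groth.Agent.Pic13.H945.PatchBC
import Groth.Agent.Sga67.BlowAmple
import Groth.Agent.VarietyB.GenLocusTensor
import Groth.Agent.VarietyB.GGStalk
import Groth.Agent.CohqB.PullTwist471
import Groth.Agent.S10869

/-!
# Cohomology of twists of powers of an ideal and the blow-up

* `transfer`: for a blow-up `b` of `J`, `H^i(X, J^n ⊗ E) = H^i(X', (J·O)^{⊗n} ⊗ b^*E)` for `n` large and `E` invertible.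
* `exists_ample`: `(J·O) ⊗ b^*H^a` is ample for `H` ample and `a` large.
* `sa_of_gg`: if `J^n ⊗ E` is globally generated, `(J·O)^{⊗n} ⊗ b^*E` is generated by sections.
-/

set_option autoImplicit false
universe u
open CategoryTheory CategoryTheory.Limits AlgebraicGeometry Opposite TopologicalSpace

namespace K104.Blow

open Groth.Agent Groth.Agent.Fdesc.LocGen Groth.Agent.Fga.PicMon Groth.Agent.Fga.HodgePush
open Groth.Agent.Pic13.H945.IdealPull Groth.Agent.Dix.IdealModSec Groth.Agent.CycB.StalkExact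
open Groth.Agent.Dix.IdealModCartier

variable {X X' : Scheme.{u}} {b : X' ⟶ X} {J : X.IdealSheafData}

theorem exists_acyc [IsNoetherian X] [IsProper b] (hb : BlowUp.IsBlowUp b J) :
    ∃ n₀ : ℕ, ∀ n, n₀ ≤ n → Acyc b (ClSub.idealMod ((J ^ n).comap b)) ∧
      Nonempty (ClSub.idealMod (J ^ n) ≅ (Coh.push b).obj (ClSub.idealMod ((J ^ n).comap b))) := by
  obtain ⟨N₁, hN₁⟩ := Pic13.H17.BlowPatch.exists_m1 hb
  obtain ⟨n₀, hn₀⟩ := Groth.Agent.S0055.result b (ClSub.idealMod (J.comap b))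
    (Groth.Agent.Ega1.IdealGen.isInvertible_idealMod _ hb.1)
    (fun W hW => Groth.Agent.Ega1.AmpFamBlow.isAmple_restrict hb ⟨W, hW⟩ _ rfl)
    (Coh.structureModule X') (CurvesC.UnitCoh.isCoh_unit X')
  refine ⟨N₁ + n₀, fun n hn => ⟨?_, ?_⟩⟩
  · obtain ⟨e⟩ := Groth.Agent.Sga2.ThickCoh.idealMod_pow hb.1 n
    rw [Groth.Agent.Divis.IdealComap.comap_pow]
    exact acyc_of_iso b (Ega2.Tens.lunit _ ≪≫ e) (fun j hj => hn₀ n (by omega) j hj)
  · have : IsIso (psi b (J ^ n)) := Pic13.H945.PatchBC.isIso_psi_of_cover b (J ^ n) fun x => by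
      obtain ⟨U, hU, hx, -⟩ := exists_isAffineOpen_mem_and_subset (x := x) (U := ⊤) trivial
      exact ⟨⟨U, hU⟩, hx, (Pic13.H945.PatchBC.m1_iff b (J ^ n) ⟨U, hU⟩).mp (hN₁ n (by omega) ⟨U, hU⟩)⟩
    exact ⟨asIso (psi b (J ^ n))⟩

theorem transfer (k : Type u) [Field k] [X.Over (Spec (CommRingCat.of k))] [X'.Over (Spec (CommRingCat.of k))]
    (hbk : b ≫ (X ↘ Spec (CommRingCat.of k)) = X' ↘ Spec (CommRingCat.of k)) [IsNoetherian X] [IsProper b]
    (hb : BlowUp.IsBlowUp b J) :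
    ∃ n₀ : ℕ, ∀ n, n₀ ≤ n → ∀ E : X.Modules, PicF.IsInvertible E → ∀ i : ℕ,
      Nonempty (Coh.HH X (CohB1.tensorMod (ClSub.idealMod (J ^ n)) E) i ≃ₗ[k]
        Coh.HH X' (CohB1.tensorMod (CohB1.tensorPow (ClSub.idealMod (J.comap b)) n)
          ((Scheme.Modules.pullback b).obj E)) i) := by
  obtain ⟨n₀, h⟩ := exists_acyc hb
  refine ⟨n₀, fun n hn E hE i => ?_⟩
  obtain ⟨hac, ⟨e⟩⟩ := h n hn
  obtain ⟨e1⟩ := K104.Leray.hh_push k b hbk hac hE i
  obtain ⟨e2⟩ := Groth.Agent.Sga2.ThickCoh.idealMod_pow hb.1 n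
  rw [← Groth.Agent.Divis.IdealComap.comap_pow] at e2
  exact ⟨(hmapEquiv k X (Ega2.Tens.mapTIso e (Iso.refl E)) i).trans (e1.trans
    (hmapEquiv k X' (Ega2.Tens.mapTIso e2.symm (Iso.refl _)) i))⟩

theorem exists_ample [QuasiCompact b] (hb : BlowUp.IsBlowUp b J) {H : X.Modules} (hH : CohB1.IsAmple H) :
    ∃ a₀ : ℕ, ∀ a, a₀ ≤ a → CohB1.IsAmple (CohB1.tensorMod (ClSub.idealMod (J.comap b))
      ((Scheme.Modules.pullback b).obj (CohB1.tensorPow H a))) := by
  open Groth.Agent.Ega2.ExtCoeff Groth.Agent.Ega2.Nv Groth.Agent.Ega2.Ample Groth.Agent.Ega2.RelAmp in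
  have hL' := isAmple_iff_ampleOn_top.1 hH
  open Groth.Agent.Ega2.ExtCoeff Groth.Agent.Ega2.Nv Groth.Agent.Ega2.Ample Groth.Agent.Ega2.RelAmp in
  obtain ⟨n, hn⟩ := ampleOn_tw b (L := ClSub.idealMod (J.comap b)) hL' (fun W _ hW =>
    (isAmple_restrict_ι_iff _).1 (Groth.Agent.Ega1.AmpFamBlow.isAmple_restrict hb ⟨W, hW⟩ _ rfl))
  open Groth.Agent.Ega2.ExtCoeff Groth.Agent.Ega2.Nv Groth.Agent.Ega2.Ample Groth.Agent.Ega2.RelAmp in
  exact ⟨n, fun a ha => isAmple_iff_ampleOn_top.2 (hn a ha)⟩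

theorem epi_tw {N : X.Modules} (hN : PicF.IsInvertible N) {A B : X.Modules} (q : A ⟶ B) [hq : Epi q] :
    Epi ((CohqB.SerTw.tw N).map q) := by
  have hS : (ShortComplex.mk (kernel.ι q) q (kernel.condition q)).ShortExact :=
    { exact := ShortComplex.exact_of_f_is_kernel _ (kernelIsKernel q)
      mono_f := inferInstanceAs (Mono (kernel.ι q))
      epi_g := hq }
  exact (CohqB.SerTw.shortExact_tw hN hS).epi_g

section Theta

variable {Y : Scheme.{u}} (g : Y ⟶ X) (J : X.IdealSheafData)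

theorem surjective_theta_app (U : X.affineOpens) (V : Y.affineOpens) (e : V.1 ≤ g ⁻¹ᵁ U.1) :
    Function.Surjective ((theta g J).app V.1) := by
  intro t
  have h1 := val_mem (J.comap g) V t
  rw [Divis.IdealComap.ideal_comap J g U V e] at h1
  have key : ∀ a ∈ (J.ideal U).map (g.appLE U V e).hom, ∃ s : Γ((Scheme.Modules.pullback g).obj (ClSub.idealMod J), V.1),
      val (J.comap g) ((theta g J).app V.1 s) = a := by
    intro a ha
    induction ha using Submodule.span_induction with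
    | mem x hx =>
      obtain ⟨c, hc, rfl⟩ := hx
      obtain ⟨s, rfl⟩ := exists_val_eq J U hc
      refine ⟨Groth.Agent.VarietyB.PullSec.sec g _ e s, ?_⟩
      rw [theta_sec, val_pullVal]
    | zero => exact ⟨0, by rw [map_zero, val_zero]⟩
    | add x y _ _ hx hy =>
      obtain ⟨s, rfl⟩ := hx
      obtain ⟨s', rfl⟩ := hy
      exact ⟨s + s', by rw [map_add, val_add]⟩
    | smul r x _ hx =>
      obtain ⟨s, rfl⟩ := hx
      refine ⟨r • s, ?_⟩
      rw [Scheme.Modules.Hom.app_smul]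
      exact val_smul _ _ _
  obtain ⟨s, hs⟩ := key _ h1
  exact ⟨s, val_injective _ hs⟩

theorem epi_theta : Epi (theta g J) := by
  refine VarietyB.ExactLoc.epi_of_stalk _ fun y => ?_
  intro t
  obtain ⟨U, V, -, hyV, -, -, e⟩ := Divis.IdealComap.exists_affine_le g y ⊤ trivial ⊤ trivial
  obtain ⟨W, hyW, hWV, s, rfl⟩ := VarietyB.ExactLoc.exists_germ_le (ClSub.idealMod (J.comap g)) hyV t
  obtain ⟨V', hV', hyV', hV'W'⟩ := exists_isAffineOpen_mem_and_subset hyW
  have hV'W : V' ≤ W := hV'W'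
  obtain ⟨m, hm⟩ := surjective_theta_app g J U ⟨V', hV'⟩ ((le_trans hV'W hWV).trans e)
    (res _ hV'W s)
  refine ⟨((Scheme.Modules.pullback g).obj (ClSub.idealMod J)).presheaf.germ V' y hyV' m, ?_⟩
  rw [stalkLin_germ, hm]
  exact TopCat.Presheaf.germ_res_apply _ _ _ _ _

end Theta

/-- If `J^n ⊗ E` is globally generated, `(J·O)^{⊗n} ⊗ b^*E` is semi-ample. -/
theorem sa_of_gg (hb : BlowUp.IsBlowUp b J) {E : X.Modules} (hE : PicF.IsInvertible E) (n : ℕ)
    (hg : Curv2.IsGloballyGenerated (CohB1.tensorMod (ClSub.idealMod (J ^ n)) E)) :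
    SemiA.SA (CohB1.tensorMod (CohB1.tensorPow (ClSub.idealMod (J.comap b)) n)
      ((Scheme.Modules.pullback b).obj E)) := by
  have h1 := VarietyB.GGStalk.isGloballyGenerated_pullback b _ hg
  have hE' := isInvertible_pullback b hE
  have h2 := Ega2.GlobGenCrit.isGloballyGenerated_of_iso
    (CohqB.PullTwist471.pullTensorIsoRight b (Fga.MultInt.hasBases hE) (ClSub.idealMod (J ^ n))) h1
  have := epi_theta b (J ^ n)
  have h3 : Epi ((CohqB.SerTw.tw ((Scheme.Modules.pullback b).obj E)).map (theta b (J ^ n))) :=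
    epi_tw hE' (theta b (J ^ n))
  have h4 := S10869.isGloballyGenerated_of_epi
    ((CohqB.SerTw.tw ((Scheme.Modules.pullback b).obj E)).map (theta b (J ^ n))) h2
  obtain ⟨e2⟩ := Groth.Agent.Sga2.ThickCoh.idealMod_pow hb.1 n
  rw [← Groth.Agent.Divis.IdealComap.comap_pow] at e2
  have h5 := Ega2.GlobGenCrit.isGloballyGenerated_of_iso (Ega2.Tens.mapTIso e2.symm (Iso.refl _)) h4
  have hinv : PicF.IsInvertible (ClSub.idealMod (J.comap b)) :=
    Groth.Agent.Ega1.IdealGen.isInvertible_idealMod _ hb.1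
  exact SemiA.SA.of_sections fun x => VarietyB.GenLocusTensor.exists_mem_genLocus
    (isInvertible_tensorMod (isInvertible_tensorPow hinv n) hE') h5 x

end K104.Blow
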