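import Groth.Agent.SDiv.K476.HomSh6
import Groth.Agent.Dcoh.MonClosed
import Groth.Agent.Vanish.K909.Fujita
import Groth.Agent.Ega3B.Devissage

/-!
# Maps to powers of an ample module

`exists_eval`: for `G` coherent on an integral scheme, nonzero at the generic point, there are `D` coherent and a
generically surjective map `G ⊗ D ⟶ O_X`.
`exists_map`: for `H` ample there is a generically surjective map `G ⊗ O_X^r ⟶ H^m`.
-/

set_option autoImplicit false
universe u
open CategoryTheory CategoryTheory.Limits AlgebraicGeometry Opposite TopologicalSpace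

namespace K104.FujHom

open Groth.Agent Groth.Agent.Fdesc.LocGen Groth.Agent.Fga.PicMon Groth.Agent.CohqB.SerTw
open Groth.Agent.CycB.StalkExact

variable {X : Scheme.{u}}

theorem exists_functional {K : Type*} [CommRing K] (hK : IsField K) {V : Type*} [AddCommGroup V] [Module K V]
    (v : V) (hv : v ≠ 0) : ∃ φ : V →ₗ[K] K, φ v ≠ 0 := by
  let := hK.toField
  exact Module.Projective.exists_dual_ne_zero K hv

section

open Groth.Agent.Dcoh.MonClosed Groth.Agent.Dcoh.MonTm Groth.Agent.CohqB.HomSheaf K476.HomSh1 K476.HomSh3 K476.HomSh6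
  RefHull

theorem stepA [IsIntegral X] {G : X.Modules} 
    (hη : genericPoint X ∈ CohB1.support G) :
    ∃ (θ : StalkHom G (Coh.structureModule X) (genericPoint X)) (m₀ : G.presheaf.stalk (genericPoint X)), 
      ∀ y : (Coh.structureModule X).presheaf.stalk (genericPoint X), ∃ r : X.presheaf.stalk (genericPoint X),
        r • θ m₀ = y := by
  have hfield : IsField (X.presheaf.stalk (genericPoint X)) := Field.toIsField X.functionField
  obtain ⟨m₀, hm₀⟩ : ∃ m : G.presheaf.stalk (genericPoint X), m ≠ 0 := by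
    by_contra h
    push Not at h
    exact hη ⟨fun a b => (h a).trans (h b).symm⟩
  obtain ⟨θ₀, hθ₀⟩ := exists_functional hfield m₀ hm₀
  let e := Fdesc.StructMod.stalkEquiv (genericPoint X)
  obtain ⟨c', hc'⟩ := hfield.mul_inv_cancel hθ₀
  refine ⟨e.toLinearMap.comp θ₀, m₀, fun y => ?_⟩
  obtain ⟨r, rfl⟩ := e.surjective y
  refine ⟨r * c', ?_⟩
  change (r * c') • e (θ₀ _) = e r
  rw [← map_smul, smul_eq_mul, mul_assoc, mul_comm c', hc', mul_one]



section
open MonoidalCategory
open scoped Groth.Agent.Dcoh.MonCat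
theorem stepB0 (G N : X.Modules) (x : X) (U : X.Opens) (hx : x ∈ U) (g : Γ(homSh G N, U))
    (m : Γ(G, U)) :
    ∃ z, stalkLin (ev G N) x z = N.presheaf.germ U x hx (secMap g le_rfl m) := by
  refine ⟨_, (stalkLin_germ (ev G N) x hx (tm m ((cmp G N).app U g))).trans ?_⟩
  rw [ev_tm, comp_cmp]

theorem stepB1 (G N : X.Modules) (x : X) (s : (homSh G N).presheaf.stalk x) (m₀ : G.presheaf.stalk x) :
    ∃ z, stalkLin (ev G N) x z = evalStalk G N x s m₀ := by
  obtain ⟨U, hU, g, rfl⟩ := (homSh G N).presheaf.exists_germ_eq s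
  obtain ⟨V, hV, hVU, m, rfl⟩ := VarietyB.ExactLoc.exists_germ_le G hU m₀
  obtain ⟨z, hz⟩ := stepB0 G N x V hV (res _ hVU g) m
  refine ⟨z, hz.trans ?_⟩
  rw [evalStalk_germ, germ_secMap]
  rfl
end


open scoped Groth.Agent.Dcoh.MonCat in
theorem exists_eval' [IsIntegral X] [IsLocallyNoetherian X] {G : X.Modules} (hG : Coh.IsCoh G)
    (hη : genericPoint X ∈ CohB1.support G) :
    Coh.IsCoh (homSheaf G (Coh.structureModule X)) ∧
      genericPoint X ∉ CohB1.support (cokernel (ev G (Coh.structureModule X))) := by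
  have hO : Coh.IsCoh (Coh.structureModule X) :=
    VarietyA.CurveFin.isCoh_of_isInvertible isInvertible_structureModule
  refine ⟨Sga67.CohBasic.isCoh_of_iso (cmpIso G _) (isCoh_homSh hG hO), ?_⟩
  refine Ega3B.Devissage.notMem_support_cokernel _ _ fun y => ?_
  obtain ⟨θ, m₀, h⟩ := stepA hη
  obtain ⟨s, rfl⟩ := evalStalk_surjective G (Coh.structureModule X) (isFP_of_isCoh hG) (genericPoint X) θ
  obtain ⟨r, rfl⟩ := h y
  obtain ⟨z, hz⟩ := stepB1 G (Coh.structureModule X) (genericPoint X) s m₀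
  exact ⟨r • z, by rw [map_smul, hz]⟩

end

theorem exists_eval [IsIntegral X] [IsLocallyNoetherian X] {G : X.Modules} (hG : Coh.IsCoh G)
    (hη : genericPoint X ∈ CohB1.support G) :
    ∃ (D : X.Modules) (φ : CohB1.tensorMod G D ⟶ Coh.structureModule X), Coh.IsCoh D ∧
      genericPoint X ∉ CohB1.support (cokernel φ) :=
  ⟨_, _, exists_eval' hG hη⟩

open Groth.Agent.Dcoh.MonClosed MonoidalCategory in
open scoped Groth.Agent.Dcoh.MonCat in
theorem epi_left (G : X.Modules) {A B : X.Modules} (q : A ⟶ B) [hq : Epi q] :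
    ∃ p : CohB1.tensorMod G A ⟶ CohB1.tensorMod G B, Epi p := by
  have h : (tensorLeft G).PreservesEpimorphisms := Functor.preservesEpimorphisms_of_adjunction (tensorHomAdj G)
  exact ⟨(tensorLeft G).map q, h.preserves q⟩

theorem epi_tw {N : X.Modules} (hN : PicF.IsInvertible N) {A B : X.Modules} (q : A ⟶ B) [hq : Epi q] :
    Epi ((tw N).map q) := by
  have hS : (ShortComplex.mk (kernel.ι q) q (kernel.condition q)).ShortExact :=
    { exact := ShortComplex.exact_of_f_is_kernel _ (kernelIsKernel q)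
      mono_f := inferInstanceAs (Mono (kernel.ι q))
      epi_g := hq }
  exact (shortExact_tw hN hS).epi_g

/-- A generically surjective map from twists of `G`. -/
theorem exists_map (k : Type u) [Field k] [X.Over (Spec (CommRingCat.of k))]
    [IsProper (X ↘ Spec (CommRingCat.of k))] [IsIntegral X] {H G : X.Modules} (hH : CohB1.IsAmple H)
    (hG : Coh.IsCoh G) (hη : genericPoint X ∈ CohB1.support G) :
    ∃ (r m : ℕ) (H' : X.Modules) (ψ : CohB1.tensorMod G (CohB1.tensorMod (FlatMod.freeMod X r) H') ⟶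
      Coh.structureModule X), PicF.IsInvertible H' ∧ mc H ^ m * mc H' = 1 ∧
      genericPoint X ∉ CohB1.support (cokernel ψ) := by
  have hNoeth : IsNoetherian X := VarietyA.TwistExist.isNoetherian k X
  have hsep : X.IsSeparated := Fga.HypSec.isSeparated k X
  obtain ⟨D, φ, hD, hφ⟩ := exists_eval hG hη
  obtain ⟨m, hm⟩ := S2325.result X H hH D hD
  have hHm := isInvertible_tensorPow hH.1 m
  obtain ⟨r, q, hq⟩ := Ega2.H287.FinGenFree.exists_epi_freeMod (Fga.TwistCoh.isCoh_tensor hD hHm) (hm m le_rfl)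
  let H' := Grpsch.PicGrp.dual (CohB1.tensorPow H m)
  have hH' : PicF.IsInvertible H' := Grpsch.PicGrp.isInvertible_dual hHm
  have h3 : mc (CohB1.tensorPow H m) * mc H' = 1 := by
    rw [← mc_tensor, ← mc_one, mc_eq_iff]
    exact ⟨@asIso _ _ _ _ (Grpsch.PicGrp.ev (CohB1.tensorPow H m)) (Grpsch.PicGrp.isIso_ev hHm)⟩
  obtain ⟨i⟩ : Nonempty (CohB1.tensorMod (CohB1.tensorMod D (CohB1.tensorPow H m)) H' ≅ D) := by
    rw [← mc_eq_iff, mc_tensor, mc_tensor, mul_assoc, h3, mul_one]
  have hq1 := epi_tw hH' q (hq := hq)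
  let q' : CohB1.tensorMod (FlatMod.freeMod X r) H' ⟶ D := (tw H').map q ≫ i.hom
  have hq' : Epi q' := @epi_comp _ _ _ _ _ _ hq1 _ _
  obtain ⟨p, hp⟩ := epi_left G q'
  refine ⟨r, m, H', p ≫ φ, hH', ?_, ?_⟩
  · rw [← mc_tensorPow, h3]
  · rw [CohqB.DevSupport.support_congr (cokernelEpiComp p φ)]
    exact hφ

end K104.FujHom
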