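import Groth.Agent.Variety.K104.Leray
import Groth.Agent.Variety.K104.SemiA
import Groth.Agent.Variety.K104.FujHom
import Groth.Agent.Vanish.K909.AltInterface
import Groth.Agent.Variety.K434.DevIrred
import Groth.Agent.Fga.HodgeMult
import Groth.Agent.SDiv.K476.Ref1

/-!
# Fujita's vanishing theorem on arbitrary projective schemes

`Cls k`: a class of invertible modules stable under pull-back, with `A ⊗ N` ample for `A` ample.
`main`: uniform vanishing over such a class for all coherent modules on all projective schemes, from a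
"good" coherent module with full support on every projective variety (`Geo`).
`geo`: this input, from alterations and Kodaira vanishing.
-/

set_option autoImplicit false
universe u
open CategoryTheory CategoryTheory.Limits AlgebraicGeometry Opposite TopologicalSpace

namespace K104.Fuj

open Groth.Agent Groth.Agent.Ega2 Groth.Agent.Fdesc.LocGen Groth.Agent.Fga.PicMon Groth.Agent.CohqB.SerTw
open Groth.Agent.VarietyA.EulerLES Groth.Agent.Pic13.H946 Groth.Agent.Pic13.H946.CoreGood
open K909.Fujita K104.FujHom Groth.Agent.CohqB.DevSupport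

/-- A class of invertible modules on proper `k`-schemes, stable under pull-back, with `ample ⊗ 𝒩` ample. -/
structure Cls (k : Type u) [Field k] where
  P : ∀ {X : Scheme.{u}} (_ : X ⟶ Spec (CommRingCat.of k)), X.Modules → Prop
  pull : ∀ {X Y : Scheme.{u}} (f : X ⟶ Spec (CommRingCat.of k)) [IsProper f] (g : Y ⟶ X) [IsProper g]
    (N : X.Modules), PicF.IsInvertible N → P f N → P (g ≫ f) ((Scheme.Modules.pullback g).obj N)
  amp : ∀ {X : Scheme.{u}} (f : X ⟶ Spec (CommRingCat.of k)) [IsProper f] (A N : X.Modules),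
    CohB1.IsAmple A → PicF.IsInvertible N → P f N → CohB1.IsAmple (CohB1.tensorMod A N)

/-- The class of semi-ample modules. -/
def Cls.sa (k : Type u) [Field k] : Cls k where
  P _ N := K104.SemiA.SA N
  pull _ _ g _ N hN h := h.pull g hN
  amp {X} f _ A N hA hN h := by
    have : CompactSpace X := QuasiCompact.compactSpace_of_compactSpace f
    have : X.IsSeparated := ⟨by
      rw [show terminal.from X = f ≫ terminal.from _ from terminal.hom_ext _ _]
      infer_instance⟩
    exact h.amp hA hN

section Calc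

variable (k : Type u) [Field k] {X : Scheme.{u}} [X.Over (Spec (CommRingCat.of k))] {𝒩 : X.Modules → Prop}

include k in
theorem vanGe_mid {H : X.Modules} (hH : PicF.IsInvertible H) {S : ShortComplex X.Modules} (hS : S.ShortExact) {j : ℕ}
    (h1 : VanGe 𝒩 H S.X₁ j) (h3 : VanGe 𝒩 H S.X₃ j) : VanGe 𝒩 H S.X₂ j := by
  obtain ⟨p₁, h1⟩ := h1
  obtain ⟨p₂, h3⟩ := h3
  refine ⟨max p₁ p₂, fun N hN hn p hp i hi => ?_⟩
  have hW : PicF.IsInvertible (CohB1.tensorMod N (CohB1.tensorPow H p)) :=
    isInvertible_tensorMod hN (isInvertible_tensorPow hH p)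
  have hS' := shortExact_tw hW hS
  have a1 := h1 N hN hn p (le_trans (le_max_left _ _) hp) i hi
  have a3 := h3 N hN hn p (le_trans (le_max_right _ _) hp) i hi
  refine subsingleton_of_forall_eq 0 fun y => ?_
  obtain ⟨x, rfl⟩ := (exactA₂ k (S.map (tw (CohB1.tensorMod N (CohB1.tensorPow H p)))) hS' i y).mp
    (Subsingleton.elim (α := Coh.HH X (CohB1.tensorMod S.X₃ (CohB1.tensorMod N (CohB1.tensorPow H p))) i) _ _)
  have hx : x = 0 := Subsingleton.elim (α := Coh.HH X (CohB1.tensorMod S.X₁
    (CohB1.tensorMod N (CohB1.tensorPow H p))) i) x 0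
  rw [hx, map_zero]
  rfl

omit [X.Over (Spec (CommRingCat.of k))] in
theorem vanGe_of_iso {H F G : X.Modules} {j : ℕ} (h : VanGe 𝒩 H F j) (e : F ≅ G) : VanGe 𝒩 H G j :=
  h.congr (mc_eq e)

omit [X.Over (Spec (CommRingCat.of k))] in
theorem vanGe_of_isZero {H F : X.Modules} (h : IsZero F) (j : ℕ) : VanGe 𝒩 H F j := by
  refine ⟨0, fun N _ _ p _ i _ => ?_⟩
  exact Fga.HShift.subsingleton_of_isZero ((tw (CohB1.tensorMod N (CohB1.tensorPow H p))).map_isZero h) i

omit [X.Over (Spec (CommRingCat.of k))] in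
/-- `G ⊗ O^r`. -/
theorem vanGe_tensor_free {H G : X.Modules} {j : ℕ} (h : VanGe 𝒩 H G j) (r : ℕ) :
    VanGe 𝒩 H (CohB1.tensorMod G (FlatMod.freeMod X r)) j := by
  obtain ⟨p₀, h⟩ := h
  refine ⟨p₀, fun N hN hn p hp i hi => ?_⟩
  let W := CohB1.tensorMod N (CohB1.tensorPow H p)
  have h1 : ∀ _ : Fin r, Subsingleton (Coh.HH X (CohB1.tensorMod (Coh.structureModule X) (CohB1.tensorMod G W)) i) :=
    fun _ => hh_congr (by simp only [mc_tensor, mc_one, one_mul, W]) (h N hN hn p hp i hi)
  have h2 := Fga.HShift.subsingleton_coproduct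
    (fun _ : Fin r => CohB1.tensorMod (Coh.structureModule X) (CohB1.tensorMod G W)) i h1
  let e : (tw (CohB1.tensorMod G W)).obj (FlatMod.freeMod X r) ≅
      ∐ fun _ : Fin r => CohB1.tensorMod (Coh.structureModule X) (CohB1.tensorMod G W) :=
    PreservesCoproduct.iso (tw _) _
  have h3 : Subsingleton (Coh.HH X ((tw (CohB1.tensorMod G W)).obj (FlatMod.freeMod X r)) i) :=
    ((equivΓ e i).toEquiv.subsingleton_congr).mpr h2
  refine hh_congr ?_ h3
  change mc (CohB1.tensorMod (FlatMod.freeMod X r) (CohB1.tensorMod G W)) = _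
  simp only [mc_tensor, W]
  ac_rfl

end Calc

section Main

variable {k : Type u} [Field k] (C : Cls k)

theorem mc_pull {X Y : Scheme.{u}} (g : Y ⟶ X) {N H : X.Modules} (hN : PicF.IsInvertible N)
    (hH : PicF.IsInvertible H) (p : ℕ) :
    mc ((Scheme.Modules.pullback g).obj (CohB1.tensorMod N (CohB1.tensorPow H p))) =
      mc ((Scheme.Modules.pullback g).obj N) * mc ((Scheme.Modules.pullback g).obj H) ^ p := by
  obtain ⟨e⟩ := Ega3B.PullTensor.nonempty_pullPowIso g hH p
  rw [mc_eq (Ega3B.PullTensor.pullTensorIso g hN (isInvertible_tensorPow hH p)), mc_tensor, mc_eq e, mc_tensorPow]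

/-- Push-forward along a closed immersion. -/
theorem vanGe_push {X Z : Scheme.{u}} (f : X ⟶ Spec (CommRingCat.of k)) [IsProper f] (i : Z ⟶ X) [IsClosedImmersion i]
    {H : X.Modules} (hH : PicF.IsInvertible H) {G : Z.Modules} {j : ℕ}
    (h : VanGe (C.P (i ≫ f)) ((Scheme.Modules.pullback i).obj H) G j) :
    VanGe (C.P f) H ((Coh.push i).obj G) j := by
  obtain ⟨p₀, h⟩ := h
  refine ⟨p₀, fun N hN hn p hp q hq => ?_⟩
  let : X.Over (Spec (CommRingCat.of k)) := ⟨f⟩
  let : Z.Over (Spec (CommRingCat.of k)) := ⟨i ≫ f⟩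
  have hW := isInvertible_tensorMod hN (isInvertible_tensorPow hH p)
  obtain ⟨e⟩ := CoreDev.exists_equiv k i rfl hW
    (W' := CohB1.tensorMod ((Scheme.Modules.pullback i).obj N)
        (CohB1.tensorPow ((Scheme.Modules.pullback i).obj H) p)) (by
      rw [← mc_eq_iff, mc_pull i hN hH, mc_tensor, mc_tensorPow]) G q
  exact (e.toEquiv.subsingleton_congr).mpr (h _ (isInvertible_pullback i hN) (C.pull f i N hN hn) p hp q hq)

/-- The geometric input. -/
def Geo : Prop :=
  ∀ (V : Scheme.{u}) (f : V ⟶ Spec (CommRingCat.of k)) [IsProper f] [IsIntegral V] (H : V.Modules),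
    CohB1.IsAmple H → ∃ G : V.Modules, Coh.IsCoh G ∧ genericPoint V ∈ CohB1.support G ∧ VanGe (C.P f) H G 1

/-- The step on a projective variety. -/
theorem vanGe_integral (geo : Geo C) {Z : Scheme.{u}} (f : Z ⟶ Spec (CommRingCat.of k)) [IsProper f] [IsIntegral Z]
    {H : Z.Modules} (hH : CohB1.IsAmple H)
    (htor : ∀ Q : Z.Modules, Coh.IsCoh Q → genericPoint Z ∉ CohB1.support Q → VanGe (C.P f) H Q 1)
    (F : Z.Modules) (hF : Coh.IsCoh F) : VanGe (C.P f) H F 1 := by
  let : Z.Over (Spec (CommRingCat.of k)) := ⟨f⟩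
  have : IsProper (Z ↘ Spec (CommRingCat.of k)) := inferInstanceAs (IsProper f)
  have hNoeth : IsNoetherian Z := VarietyA.TwistExist.isNoetherian k Z
  have hsep : Z.IsSeparated := Fga.HypSec.isSeparated k Z
  have hO : Coh.IsCoh (Coh.structureModule Z) :=
    VarietyA.CurveFin.isCoh_of_isInvertible isInvertible_structureModule
  obtain ⟨d, hd⟩ := EtpbcA.CdFinDim.exists_dim_le (Z ↘ Spec (CommRingCat.of k))
  obtain ⟨G, hG, hη, hGv⟩ := geo Z f H hH
  obtain ⟨r, m, H', ψ, hH', hHH', hψ⟩ := exists_map k hH hG hη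
  let T := CohB1.tensorMod G (CohB1.tensorMod (FlatMod.freeMod Z r) H')
  have hTc : Coh.IsCoh T := K476.Ref1.isCoh_tensorMod hG
    (Fga.TwistCoh.isCoh_tensor (PerfA.CohSerre.isCoh_freeMod r) hH')
  have hT : VanGe (C.P f) H T 1 := by
    refine VanGe.of_twist (m := m) ((vanGe_tensor_free hGv r).congr ?_)
    simp only [T, mc_tensor, mc_tensorPow]
    rw [mul_assoc, mul_assoc, mul_comm (mc H'), hHH', mul_one]
  have hCc : Coh.IsCoh (cokernel ψ) := Sga67.CohBasic.isCoh_cokernel ψ hTc.1 hO
  have hC : VanGe (C.P f) H (cokernel ψ) 1 := htor _ hCc hψ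
  have key : ∀ t j : ℕ, 1 ≤ j → d + 1 ≤ j + t → ∀ F : Z.Modules, Coh.IsCoh F → VanGe (C.P f) H F j := by
    intro t
    induction t with
    | zero =>
      intro j _ hj F _
      exact ⟨0, fun N _ _ p _ i hi => Fga.EulerLEAdd.subsingleton_HH Z d hd _ i (by omega)⟩
    | succ t ih =>
      intro j hj hjt F hF
      have hO1 : VanGe (C.P f) H (Coh.structureModule Z) j := by
        have hI : VanGe (C.P f) H (Abelian.image ψ) j := by
          have hK := ih (j + 1) (by omega) (by omega) (kernel ψ) (Sga67.CohBasic.isCoh_kernel _ hTc hO.1)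
          exact VanGe.right k (S := CohqB.FinAmple.kerIm ψ) hH.1 (CohqB.FinAmple.kerIm_shortExact ψ)
            (hT.mono hj) hK
        have hS : (ShortComplex.mk (Abelian.image.ι ψ) (cokernel.π ψ) (kernel.condition _)).ShortExact :=
          { exact := ShortComplex.exact_of_f_is_kernel _ (kernelIsKernel _)
            mono_f := inferInstance
            epi_g := inferInstanceAs (Epi (cokernel.π ψ)) }
        exact vanGe_mid k hH.1 hS hI (hC.mono hj)
      obtain ⟨m, hm⟩ := S2325.result Z H hH F hF
      have hF' : Coh.IsCoh (CohB1.tensorMod F (CohB1.tensorPow H m)) :=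
        Fga.TwistCoh.isCoh_tensor hF (isInvertible_tensorPow hH.1 m)
      obtain ⟨r, p, hp⟩ := Ega2.H287.FinGenFree.exists_epi_freeMod hF' (hm m le_rfl)
      have hS : (ShortComplex.mk (kernel.ι p) p (kernel.condition p)).ShortExact :=
        { exact := ShortComplex.exact_of_f_is_kernel _ (kernelIsKernel p)
          mono_f := inferInstanceAs (Mono (kernel.ι p))
          epi_g := hp }
      refine VanGe.of_twist (m := m) ?_
      refine VanGe.right k (S := ShortComplex.mk (kernel.ι p) p (kernel.condition p)) hH.1 hS ?_ ?_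
      · exact hO1.freeMod r
      · exact ih (j + 1) (by omega) (by omega) _
          (PerfA.CohSerre.isCoh_kernel p (PerfA.CohSerre.isCoh_freeMod r) hF'.1)
  exact key d 1 le_rfl (by omega) F hF

theorem dim_lt_of_generic {Z : Scheme.{u}} [IsIntegral Z] {Q : Z.Modules} (hQ : Coh.IsCoh Q)
    (h : genericPoint Z ∉ CohB1.support Q) {e : ℕ} (hd : topologicalKrullDim Z < ((e + 1 : ℕ) : WithBot ℕ∞)) :
    topologicalKrullDim (CohB1.support Q) < (e : WithBot ℕ∞) := by
  refine Fga.DimLt.topologicalKrullDim_lt (A := Set.univ) (IrreducibleSpace.isIrreducible_univ Z)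
    (S0020.result Z Q hQ.2) (Set.subset_univ _) (fun h' => h (by rw [h']; trivial)) ?_
  exact lt_of_le_of_lt (Topology.IsInducing.subtypeVal.topologicalKrullDim_le) hd

/-- **Fujita vanishing**, by induction on the dimension of the support. -/
theorem main_dim (geo : Geo C) (e : ℕ) : ∀ {X : Scheme.{u}} (f : X ⟶ Spec (CommRingCat.of k)) [IsProper f]
    {H : X.Modules} (_ : CohB1.IsAmple H) (F : X.Modules), Coh.IsCoh F →
    topologicalKrullDim (CohB1.support F) < (e : WithBot ℕ∞) → VanGe (C.P f) H F 1 := by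
  induction e with
  | zero =>
    intro X f _ H hH F hF hd
    refine vanGe_of_isZero (isZero_of_support_eq_empty ?_) 1
    by_contra hne
    obtain ⟨x, hx⟩ := Set.nonempty_iff_ne_empty.2 hne
    have : Nonempty (IrreducibleCloseds (CohB1.support F)) :=
      ⟨⟨closure {⟨x, hx⟩}, isIrreducible_singleton.closure, isClosed_closure⟩⟩
    have h1 : (0 : WithBot ℕ∞) ≤ topologicalKrullDim (CohB1.support F) := Order.krullDim_nonneg
    exact absurd hd (not_lt.2 (by simpa using h1))
  | succ e ih =>
    intro X f _ H hH F hF hd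
    let : X.Over (Spec (CommRingCat.of k)) := ⟨f⟩
    have : IsProper (X ↘ Spec (CommRingCat.of k)) := inferInstanceAs (IsProper f)
    have hNoeth : IsNoetherian X := VarietyA.TwistExist.isNoetherian k X
    rcases isEmpty_or_nonempty X with hemp | hne
    · exact vanGe_of_isZero (isZero_of_support_eq_empty (Set.eq_empty_of_isEmpty _)) 1
    refine S0027.result X (fun F => topologicalKrullDim (CohB1.support F) < ((e + 1 : ℕ) : WithBot ℕ∞) →
      VanGe (C.P f) H F 1) ?_ ?_ ?_ F hF hd
    · rintro M N ⟨a⟩ h hN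
      exact vanGe_of_iso (h (by rwa [support_congr a])) a
    · intro S hS c1 c2 c3 h1 h3 h2
      have hsub := support_shortExact hS
      refine vanGe_mid k hH.1 hS (h1 (lt_of_le_of_lt (Fga.DimLt.topologicalKrullDim_mono ?_) h2))
        (h3 (lt_of_le_of_lt (Fga.DimLt.topologicalKrullDim_mono ?_) h2))
      · rw [hsub]; exact Set.subset_union_left
      · rw [hsub]; exact Set.subset_union_right
    · intro Z i hi hZ I ι hι hI hdim
      by_cases hg : genericPoint Z ∈ CohB1.support I
      · have hZN : IsLocallyNoetherian Z := LocallyOfFiniteType.isLocallyNoetherian i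
        have hO : Coh.IsCoh (Coh.structureModule Z) :=
          VarietyA.CurveFin.isCoh_of_isInvertible isInvertible_structureModule
        have hIc : Coh.IsCoh I := S0046.result Z _ _ ι hO hI
        have hdZ : topologicalKrullDim Z < ((e + 1 : ℕ) : WithBot ℕ∞) := by
          have h1 : CohB1.support I = Set.univ := by
            have hc : IsClosed (CohB1.support I) := S0020.result Z I hIc.2
            rw [Set.eq_univ_iff_forall]
            intro z
            exact (genericPoint_specializes z).mem_closed hc hg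
          rw [CohqB.DevSimple.support_push, h1, Set.image_univ] at hdim
          refine lt_of_le_of_lt ?_ hdim
          exact (i.isClosedEmbedding.isEmbedding.toHomeomorph.isHomeomorph.topologicalKrullDim_eq).le
        refine vanGe_push C f i hH.1 (vanGe_integral C geo (i ≫ f) (CohqB.AmpCocycle.isAmple_pullback i hH) ?_ I hIc)
        intro Q hQ hη
        exact ih (i ≫ f) (CohqB.AmpCocycle.isAmple_pullback i hH) Q hQ (dim_lt_of_generic hQ hη hdZ)
      · exact vanGe_of_isZero ((Coh.push i).map_isZero (K434.DevIrred.isZero_of_torsion ι hg)) 1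

/-- **Fujita vanishing.** -/
theorem main (geo : Geo C) {X : Scheme.{u}} (f : X ⟶ Spec (CommRingCat.of k)) [IsProper f]
    {H : X.Modules} (hH : CohB1.IsAmple H) (F : X.Modules) (hF : Coh.IsCoh F) : VanGe (C.P f) H F 1 := by
  let : X.Over (Spec (CommRingCat.of k)) := ⟨f⟩
  have : IsProper (X ↘ Spec (CommRingCat.of k)) := inferInstanceAs (IsProper f)
  obtain ⟨d, hd⟩ := EtpbcA.CdFinDim.exists_dim_le (X ↘ Spec (CommRingCat.of k))
  refine main_dim C geo (d + 1) f hH F hF ?_
  refine lt_of_le_of_lt ((Topology.IsInducing.subtypeVal.topologicalKrullDim_le).trans hd) ?_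
  exact_mod_cast Nat.lt_succ_self d

end Main

end K104.Fuj
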