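import Groth.Agent.Variety.K104.Fuj
import Groth.Agent.VarietyB.GenLocusTensor
import Groth.Agent.Fga.HodgeTwist

/-!
# Fujita vanishing in characteristic zero

`geo`: the geometric input for `K104.Fuj.main`, from alterations (`K909.AltInterface.Alt`) and Kodaira vanishing
(`Kod`).  `fujita`: the conclusion.
-/

set_option autoImplicit false
universe u
open CategoryTheory CategoryTheory.Limits AlgebraicGeometry Opposite TopologicalSpace

namespace K104.Fuj

open Groth.Agent Groth.Agent.Fdesc.LocGen Groth.Agent.Fga.PicMon K909.Fujita Groth.Agent.Pic13.H946.CoreGood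

variable {k : Type u} [Field k] (C : Cls k)

/-- Kodaira vanishing in Serre dual form on projective manifolds over `k`: there is an invertible module `W` with
`H^i(Y, W ⊗ M) = 0` for `i ≥ 1` and all ample `M`. -/
def Kod (k : Type u) [Field k] : Prop :=
  ∀ (Y : Scheme.{u}) (f : Y ⟶ Spec (CommRingCat.of k)) [IsIntegral Y] [IsProper f] [Smooth f] (A : Y.Modules),
    CohB1.IsAmple A → ∃ W : Y.Modules, PicF.IsInvertible W ∧
      ∀ M : Y.Modules, CohB1.IsAmple M → ∀ i : ℕ, 1 ≤ i → Subsingleton (Coh.HH Y (CohB1.tensorMod W M) i)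

theorem geo (alt : K909.AltInterface.Alt k) (kod : Kod k) : Geo C := by
  intro V f _ _ H hH
  obtain ⟨Y, π, A, r, D, hYi, hsm, hπ, hsurj, -, hA, -, -, -⟩ := alt V f H hH ∅ isClosed_empty
    (Set.empty_ne_univ)
  obtain ⟨W, hW, hkod⟩ := kod Y (π ≫ f) A hA
  let : V.Over (Spec (CommRingCat.of k)) := ⟨f⟩
  let : Y.Over (Spec (CommRingCat.of k)) := ⟨π ≫ f⟩
  have : IsProper (V ↘ Spec (CommRingCat.of k)) := inferInstanceAs (IsProper f)
  have : IsProper (Y ↘ Spec (CommRingCat.of k)) := inferInstanceAs (IsProper (π ≫ f))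
  have hVN : IsNoetherian V := VarietyA.TwistExist.isNoetherian k V
  have hYN : IsNoetherian Y := VarietyA.TwistExist.isNoetherian k Y
  have hYs : Y.IsSeparated := Fga.HypSec.isSeparated k Y
  have hWc : Coh.IsCoh W := VarietyA.CurveFin.isCoh_of_isInvertible hW
  obtain ⟨n₁, h1⟩ := Fga.HodgePush.exists_acyc_twist π hA W hWc
  obtain ⟨n₂, h2⟩ := S2325.result Y A hA W hWc
  let n := n₁ + n₂ + 1
  have hAn := isInvertible_tensorPow hA.1 n
  have hL : PicF.IsInvertible (CohB1.tensorMod W (CohB1.tensorPow A n)) := isInvertible_tensorMod hW hAn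
  have hLc := VarietyA.CurveFin.isCoh_of_isInvertible hL
  have hac := h1 n (by omega)
  obtain ⟨s, hs⟩ := VarietyB.GenLocusTensor.exists_mem_genLocus hL (h2 n (by omega)) (genericPoint Y)
  have hAn' : CohB1.IsAmple (CohB1.tensorPow A n) := Divis.NormAmple.isAmple_tensorPow hA (by omega)
  have hgen : π (genericPoint Y) = genericPoint V := by
    have h3 := (genericPoint_spec Y).image π.continuous
    have h4 : IsGenericPoint (π (genericPoint Y)) (closure (π '' (Set.univ : Set Y))) := h3
    rw [Set.image_univ, Set.range_eq_univ.mpr hsurj.surj, closure_univ] at h4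
    exact h4.eq (genericPoint_spec V)
  refine ⟨(Coh.push π).obj (CohB1.tensorMod W (CohB1.tensorPow A n)), Fga.HodgePush.isCoh_push π hLc, ?_, ?_⟩
  · rw [← hgen]
    exact Fga.HodgeMult.mem_support_push π _ s hs
  · refine ⟨0, fun N hN hn p _ i hi => ?_⟩
    have hE := isInvertible_tensorMod hN (isInvertible_tensorPow hH.1 p)
    obtain ⟨e⟩ := K104.Leray.hh_push k π rfl hac hE i
    refine (e.toEquiv.subsingleton_congr).mpr ?_
    have hamp : CohB1.IsAmple (CohB1.tensorMod (CohB1.tensorMod (CohB1.tensorPow A n)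
        ((Scheme.Modules.pullback π).obj N)) (CohB1.tensorPow ((Scheme.Modules.pullback π).obj H) p)) := by
      refine SemiA.SA.amp (C.amp (π ≫ f) _ _ hAn' (isInvertible_pullback π hN) (C.pull f π N hN hn))
        (isInvertible_tensorPow (isInvertible_pullback π hH.1) p) ?_
      exact ((SemiA.SA.of_ample hH).pull π hH.1).tensorPow (isInvertible_pullback π hH.1) p
    refine hh_congr ?_ (hkod _ hamp i hi)
    rw [mc_tensor, mc_tensor, mc_tensor, mc_tensor, mc_pull π hN hH.1, mc_tensor, mc_tensorPow, mc_tensorPow]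
    ac_rfl

/-- **Fujita's vanishing theorem** on projective schemes over `k` (of characteristic zero, through the inputs). -/
theorem fujita (alt : K909.AltInterface.Alt k) (kod : Kod k) {X : Scheme.{u}} (f : X ⟶ Spec (CommRingCat.of k))
    [IsProper f] {H : X.Modules} (hH : CohB1.IsAmple H) (F : X.Modules) (hF : Coh.IsCoh F) :
    VanGe (C.P f) H F 1 :=
  main C (geo C alt kod) f hH F hF

end K104.Fuj
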