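import Groth.Agent.Fga.HodgeTwist
import Groth.Agent.Coh.K415.LerayGen
import Groth.Agent.S13626
import Groth.Agent.Ega3B.TensRestrict
import Groth.Agent.Pic13.H946.ChiTriv

/-!
# Higher direct images and twists; Leray with a twist

`acyc_tensor`: if `G` has no higher direct images under `g`, neither has `G ⊗ g^*E`, `E` invertible.
`hh_push`: `H^i(X, g_*G ⊗ E) = H^i(Z, G ⊗ g^*E)` for such `G`.
-/

set_option autoImplicit false
universe u
open CategoryTheory CategoryTheory.Limits AlgebraicGeometry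

namespace K104.Leray

open Groth.Agent Groth.Agent.Fga.HodgePush

variable {X Z : Scheme.{u}}

theorem acyc_iff_isZero (g : Z ⟶ X) [HasInjectiveResolutions Z.Modules] (G : Z.Modules) :
    Acyc g G ↔ ∀ p : ℕ, 0 < p → IsZero ((Coh.Rpush g p).obj G) :=
  forall_congr' fun p => forall_congr' fun _ => Ega3B.RpushAbCmp.isZero_RpushAb_iff g G p

/-- Twisting by a module pulled back from the base preserves acyclicity. -/
theorem acyc_tensor (g : Z ⟶ X) {G : Z.Modules} (h : Acyc g G) {E : X.Modules} (hE : PicF.IsInvertible E) :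
    Acyc g (CohB1.tensorMod G ((Scheme.Modules.pullback g).obj E)) := by
  have := Dcoh.DerSch.hasInjectiveResolutions Z
  rw [acyc_iff_isZero] at h ⊢
  intro p hp
  refine Groth.Agent.PerfA.Restrict.isZero_of_restrict_opens _ fun y ↦ ?_
  obtain ⟨V, hy, ⟨e⟩⟩ := hE y
  have := Groth.Agent.PerfA.AffVan.enoughInjectives (X := (g ⁻¹ᵁ V).toScheme)
  refine ⟨V, hy, ?_⟩
  have e1 := Groth.Agent.CohqA.RpushLoc.rpushResOpen g V p (CohB1.tensorMod G ((Scheme.Modules.pullback g).obj E))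
  have e2 := Groth.Agent.CohqA.RpushLoc.rpushResOpen g V p G
  have e3 : (CohB1.tensorMod G ((Scheme.Modules.pullback g).obj E)).restrict (g ⁻¹ᵁ V).ι ≅
      G.restrict (g ⁻¹ᵁ V).ι :=
    Ega3B.TensRestrict.restrictIso (g ⁻¹ᵁ V).ι G _ ≪≫
      Ega2.Tens.mapTIso (Iso.refl _) (S13626.pullRestrictIso g E V e) ≪≫ Ega2.Tens.swap _ _ ≪≫
      Ega2.Tens.lunit _
  refine IsZero.of_iso ?_ (e1 ≪≫ (Coh.Rpush (g ∣_ V) p).mapIso e3 ≪≫ e2.symm)
  exact (Scheme.Modules.restrictFunctor V.ι).map_isZero (h p hp)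

/-- Cohomology of a twist of the direct image of an acyclic module. -/
theorem hh_push (k : Type u) [Field k] [X.Over (Spec (CommRingCat.of k))] [Z.Over (Spec (CommRingCat.of k))]
    (g : Z ⟶ X) (hg : g ≫ (X ↘ Spec (CommRingCat.of k)) = Z ↘ Spec (CommRingCat.of k)) {G : Z.Modules}
    (h : Acyc g G) {E : X.Modules} (hE : PicF.IsInvertible E) (n : ℕ) :
    Nonempty (Coh.HH X (CohB1.tensorMod ((Coh.push g).obj G) E) n ≃ₗ[k]
      Coh.HH Z (CohB1.tensorMod G ((Scheme.Modules.pullback g).obj E)) n) := by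
  have := Dcoh.DerSch.hasInjectiveResolutions Z
  obtain ⟨e1⟩ := Pic13.H946.ChiTriv.push_iso g hE G
  obtain ⟨e2⟩ := K415.LerayGen.exists_equiv_of_isAcyc g k hg
    (CohB1.tensorMod G ((Scheme.Modules.pullback g).obj E)) ((acyc_iff_isZero g _).mp (acyc_tensor g h hE)) n
  exact ⟨(Fga.PicMon.hmapEquiv k X e1 n).trans e2⟩

end K104.Leray
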